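import Mathlib

/-!
# Cameron–Kantor for `q = 2`: orbits, panels, Fourier inversion

Generic tools: orbits of subgroups, the panel lemma and the alternation lemma for chains of
index-two subgroups.
-/

set_option autoImplicit false

namespace Cfsg.Agent.Proj.CK

open MulAction Pointwise

section Orb

variable {G : Type*} [Group G] {α β : Type*} [MulAction G α] [MulAction G β]

/-- orbit of a point under a subgroup -/
def orb (A : Subgroup G) (z : α) : Set α := {w | ∃ g ∈ A, g • z = w}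

/-- transitivity of a subgroup on a set -/
def Tr (A : Subgroup G) (T : Set α) : Prop := ∀ z ∈ T, ∀ w ∈ T, ∃ g ∈ A, g • z = w

/-- invariance of a set -/
def Inv (A : Subgroup G) (T : Set α) : Prop := ∀ g ∈ A, ∀ z ∈ T, g • z ∈ T

theorem mem_orb_self (A : Subgroup G) (z : α) : z ∈ orb A z := ⟨1, A.one_mem, one_smul _ _⟩

theorem orb_mono {A B : Subgroup G} (h : A ≤ B) (z : α) : orb A z ⊆ orb B z :=
  fun _ ⟨g, hg, e⟩ => ⟨g, h hg, e⟩

theorem orb_symm {A : Subgroup G} {z w : α} (h : w ∈ orb A z) : z ∈ orb A w := by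
  obtain ⟨g, hg, rfl⟩ := h
  exact ⟨g⁻¹, A.inv_mem hg, inv_smul_smul _ _⟩

theorem orb_trans {A : Subgroup G} {z w u : α} (h : w ∈ orb A z) (h' : u ∈ orb A w) :
    u ∈ orb A z := by
  obtain ⟨g, hg, rfl⟩ := h
  obtain ⟨g', hg', rfl⟩ := h'
  exact ⟨g' * g, A.mul_mem hg' hg, mul_smul _ _ _⟩

theorem orb_eq_of_mem {A : Subgroup G} {z w : α} (h : w ∈ orb A z) : orb A w = orb A z :=
  Set.Subset.antisymm (fun _ hu => orb_trans h hu) (fun _ hu => orb_trans (orb_symm h) hu)

theorem inv_orb (A : Subgroup G) (z : α) : Inv A (orb A z) :=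
  fun g hg _ hw => orb_trans hw ⟨g, hg, rfl⟩

theorem tr_orb (A : Subgroup G) (z : α) : Tr A (orb A z) :=
  fun _ hw _ hu => orb_trans (orb_symm hw) hu

theorem Inv.orb_subset {A : Subgroup G} {T : Set α} (h : Inv A T) {z : α} (hz : z ∈ T) :
    orb A z ⊆ T := by
  rintro _ ⟨g, hg, rfl⟩
  exact h g hg z hz

theorem Inv.mono {A B : Subgroup G} {T : Set α} (h : Inv B T) (hAB : A ≤ B) : Inv A T :=
  fun g hg => h g (hAB hg)

theorem Tr.mono {A B : Subgroup G} {T : Set α} (h : Tr A T) (hAB : A ≤ B) : Tr B T :=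
  fun z hz w hw => let ⟨g, hg, e⟩ := h z hz w hw; ⟨g, hAB hg, e⟩

theorem Tr.orb_eq {A : Subgroup G} {T : Set α} (h : Tr A T) (hi : Inv A T) {z : α} (hz : z ∈ T) :
    orb A z = T :=
  Set.Subset.antisymm (hi.orb_subset hz) (fun w hw => h z hz w hw)

theorem Inv.diff {A : Subgroup G} {T T' : Set α} (h : Inv A T) (h' : Inv A T') :
    Inv A (T \ T') := by
  intro g hg z hz
  refine ⟨h g hg z hz.1, fun hc => hz.2 ?_⟩
  simpa using h' g⁻¹ (A.inv_mem hg) _ hc

theorem Inv.sup {A B : Subgroup G} {T : Set α} (h : Inv A T) (h' : Inv B T) : Inv (A ⊔ B) T := by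
  intro g hg
  have : A ⊔ B ≤ (⟨⟨⟨{g | ∀ z, z ∈ T ↔ g • z ∈ T}, fun {a b} ha hb z => by
      rw [mul_smul]; exact (hb z).trans (ha _)⟩, fun z => by simp⟩,
      fun {a} ha z => by simpa using (ha (a⁻¹ • z)).symm⟩ : Subgroup G) := by
    refine sup_le (fun a ha z => ⟨h a ha z, fun hz => ?_⟩) (fun a ha z => ⟨h' a ha z, fun hz => ?_⟩)
    · simpa using h a⁻¹ (A.inv_mem ha) _ hz
    · simpa using h' a⁻¹ (B.inv_mem ha) _ hz
  exact fun z hz => (this hg z).1 hz

variable [Finite G]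

theorem orb_finite (A : Subgroup G) (z : α) : (orb A z).Finite := by
  have : orb A z ⊆ Set.range (fun g : G => g • z) := fun _ ⟨g, _, e⟩ => ⟨g, e⟩
  exact (Set.finite_range _).subset this

theorem ncard_orb_pos (A : Subgroup G) (z : α) : 0 < (orb A z).ncard :=
  (Set.ncard_pos (orb_finite A z)).2 ⟨z, mem_orb_self A z⟩

theorem ncard_orb_mul (A : Subgroup G) (z : α) :
    (orb A z).ncard * Nat.card ↥(A ⊓ stabilizer G z) = Nat.card A := by
  have h1 : orb A z = orbit A z := by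
    ext w
    constructor
    · rintro ⟨g, hg, e⟩; exact ⟨⟨g, hg⟩, e⟩
    · rintro ⟨g, e⟩; exact ⟨g, g.2, e⟩
  have h2 : Nat.card ↥(A ⊓ stabilizer G z) = Nat.card (stabilizer A z) := by
    have : stabilizer A z = (A ⊓ stabilizer G z).subgroupOf A := by
      ext g; simp [Subgroup.mem_subgroupOf, Subgroup.smul_def]
    rw [this]
    exact (Nat.card_congr (Subgroup.subgroupOfEquivOfLe inf_le_left).toEquiv).symm
  rw [h1, h2, ← index_stabilizer, Subgroup.index_mul_card]

/-- double counting -/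
theorem orb_dc (A : Subgroup G) (z : α) (w : β) :
    (orb A z).ncard * (orb (A ⊓ stabilizer G z) w).ncard =
      (orb A w).ncard * (orb (A ⊓ stabilizer G w) z).ncard := by
  have h1 := ncard_orb_mul A z
  have h2 := ncard_orb_mul (A ⊓ stabilizer G z) w
  have h3 := ncard_orb_mul A w
  have h4 := ncard_orb_mul (A ⊓ stabilizer G w) z
  rw [inf_right_comm] at h4
  have hp : 0 < Nat.card ↥(A ⊓ stabilizer G z ⊓ stabilizer G w) := Nat.card_pos
  apply Nat.eq_of_mul_eq_mul_right hp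
  rw [mul_assoc, h2, h1, mul_assoc, h4, h3]

theorem ncard_orb_dvd {A B : Subgroup G} (h : B ≤ A) {k : ℕ} (hk : Nat.card A = k * Nat.card B)
    (z : α) : (orb A z).ncard ∣ k * (orb B z).ncard := by
  have h1 := ncard_orb_mul A z
  have h2 := ncard_orb_mul B z
  obtain ⟨j, hj⟩ : Nat.card ↥(B ⊓ stabilizer G z) ∣ Nat.card ↥(A ⊓ stabilizer G z) :=
    Subgroup.card_dvd_of_le (inf_le_inf_right _ h)
  have hp : 0 < Nat.card ↥(B ⊓ stabilizer G z) := Nat.card_pos
  refine ⟨j, Nat.eq_of_mul_eq_mul_right hp ?_⟩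
  rw [mul_assoc, h2, ← hk, ← h1, hj]; ring

theorem Tr.of_ncard_le {A : Subgroup G} {T : Set α} (hT : T.Finite) (hi : Inv A T)
    (h : ∀ z ∈ T, T.ncard ≤ (orb A z).ncard) : Tr A T := by
  intro z hz w hw
  have := Set.eq_of_subset_of_ncard_le (hi.orb_subset hz) (h z hz) hT
  rw [← this] at hw
  exact hw

/-- a subgroup of odd index stays transitive on a set of `2`-power size -/
theorem Tr.of_odd {A B : Subgroup G} {T : Set α} (h : Tr A T) (hi : Inv A T) (hBA : B ≤ A)
    {k s : ℕ} (hk : Nat.card A = k * Nat.card B) (hodd : Odd k) (hs : T.ncard = 2 ^ s) :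
    Tr B T := by
  have hT : T.Finite := Set.finite_of_ncard_pos (by rw [hs]; positivity)
  refine Tr.of_ncard_le hT (hi.mono hBA) fun z hz => ?_
  have := ncard_orb_dvd hBA hk z
  rw [h.orb_eq hi hz, hs] at this
  rw [hs]
  exact Nat.le_of_dvd (ncard_orb_pos B z)
    ((Nat.Coprime.pow_left s (Nat.coprime_two_left.2 hodd)).dvd_of_dvd_mul_left this)

theorem dvd_ncard_of_forall_orb {A : Subgroup G} {k : ℕ} :
    ∀ (m : ℕ) (T : Set α), T.Finite → T.ncard = m → Inv A T →
      (∀ z ∈ T, k ∣ (orb A z).ncard) → k ∣ m := by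
  intro m
  induction m using Nat.strong_induction_on with
  | _ m ih =>
    intro T hT hm hi h
    rcases T.eq_empty_or_nonempty with rfl | ⟨z, hz⟩
    · simp at hm; simp [← hm]
    · have hs := hi.orb_subset hz
      have h1 := Set.ncard_diff_add_ncard_of_subset hs hT
      have h2 := ncard_orb_pos A z
      have := ih (T \ orb A z).ncard (by omega) _ hT.diff rfl (hi.diff (inv_orb A z))
        (fun w hw => h w hw.1)
      rw [← hm, ← h1]
      exact dvd_add this (h z hz)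

end Orb

section Sub

variable {V : Type*} [AddCommGroup V]

theorem card_sup_mul_card_inf (S T : AddSubgroup V) :
    Nat.card ↥(S ⊔ T) * Nat.card ↥(S ⊓ T) = Nat.card S * Nat.card T := by
  have h1 := AddSubgroup.relIndex_sup_right S T
  have h2 := AddSubgroup.inf_relIndex_left S T
  have e1 : T.relIndex (S ⊔ T) * Nat.card T = Nat.card ↥(S ⊔ T) := by
    rw [AddSubgroup.relIndex, ← (T.addSubgroupOf (S ⊔ T)).index_mul_card,
      Nat.card_congr (AddSubgroup.addSubgroupOfEquivOfLe (le_sup_right : T ≤ S ⊔ T)).toEquiv]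
  have e2 : (S ⊓ T).relIndex S * Nat.card ↥(S ⊓ T) = Nat.card S := by
    rw [AddSubgroup.relIndex, ← ((S ⊓ T).addSubgroupOf S).index_mul_card,
      Nat.card_congr (AddSubgroup.addSubgroupOfEquivOfLe (inf_le_left : S ⊓ T ≤ S)).toEquiv]
  rw [← e1, ← e2, h1, h2]; ring

variable [Finite V]

theorem ncard_coe (S : AddSubgroup V) : (S : Set V).ncard = Nat.card S := by
  rw [← Nat.card_coe_set_eq]; rfl

theorem ncard_diff {S E : AddSubgroup V} (h : E ≤ S) :
    ((S : Set V) \ E).ncard = Nat.card S - Nat.card E := by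
  rw [Set.ncard_diff (by exact h), ncard_coe, ncard_coe]

theorem ncard_diff' (S E : AddSubgroup V) :
    ((S : Set V) \ E).ncard + Nat.card ↥(S ⊓ E) = Nat.card S := by
  have : (S : Set V) \ E = (S : Set V) \ (S ⊓ E : AddSubgroup V) := by
    ext v; simp only [Set.mem_diff, SetLike.mem_coe, AddSubgroup.mem_inf]; tauto
  rw [this, ncard_diff inf_le_left]
  have := AddSubgroup.card_le_of_le (inf_le_left : S ⊓ E ≤ S)
  omega

theorem two_mul_card_le_of_lt {S E : AddSubgroup V} (h : E ≤ S) (hne : E ≠ S) :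
    2 * Nat.card E ≤ Nat.card S := by
  obtain ⟨j, hj⟩ := AddSubgroup.card_dvd_of_le h
  have hp : 0 < Nat.card S := Nat.card_pos
  have : j ≠ 1 := by
    rintro rfl
    exact hne (AddSubgroup.eq_of_le_of_card_ge h (by omega))
  have : j ≠ 0 := by rintro rfl; omega
  have : 2 ≤ j := by omega
  rw [hj]; nlinarith

/-- two distinct subgroups of index two meet in index four -/
theorem card_inf_of_index_two {U E E' : AddSubgroup V} (h : E ≤ U) (h' : E' ≤ U)
    (hc : Nat.card U = 2 * Nat.card E) (hc' : Nat.card U = 2 * Nat.card E') (hne : E ≠ E') :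
    Nat.card E = 2 * Nat.card ↥(E ⊓ E') := by
  have h1 := card_sup_mul_card_inf E E'
  have h2 : E ≠ E ⊔ E' := by
    intro e
    exact hne (AddSubgroup.eq_of_le_of_card_ge (e ▸ le_sup_right : E' ≤ E) (by omega)).symm
  have h3 := two_mul_card_le_of_lt (le_sup_left : E ≤ E ⊔ E') h2
  have h4 := AddSubgroup.card_le_of_le (sup_le h h')
  have h5 : Nat.card ↥(E ⊔ E') = 2 * Nat.card E := by omega
  have hp : 0 < Nat.card E := Nat.card_pos
  have h6 : Nat.card E' = Nat.card E := by omega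
  rw [h5, h6] at h1
  apply Nat.eq_of_mul_eq_mul_left hp
  rw [← h1]; ring

omit [Finite V] in
theorem le_of_diff_subset {S E T : AddSubgroup V} {z : V} (hz : z ∈ S) (hz' : z ∉ E)
    (h : (S : Set V) \ E ⊆ T) : S ≤ T := by
  intro v hv
  by_cases hE : v ∈ E
  · have h1 : z ∈ T := h ⟨hz, hz'⟩
    have h2 : v + z ∈ T := h ⟨S.add_mem hv hz, fun hc => hz' ((E.add_mem_cancel_left hE).1 hc)⟩
    exact (T.add_mem_cancel_right h1).1 h2
  · exact h ⟨hv, hE⟩

end Sub

section Panel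

variable {G : Type*} [Group G] [Finite G] {V : Type*} [AddCommGroup V] [Finite V]
  [DistribMulAction G V]

omit [Finite G] [Finite V] in
theorem mem_smul_iff {g : G} {S : AddSubgroup V} {v : V} : v ∈ g • S ↔ g⁻¹ • v ∈ S :=
  AddSubgroup.mem_pointwise_smul_iff_inv_smul_mem

omit [Finite G] [Finite V] in
theorem card_smul (g : G) (S : AddSubgroup V) : Nat.card ↥(g • S) = Nat.card S :=
  Nat.card_congr ⟨fun v => ⟨g⁻¹ • v.1, mem_smul_iff.1 v.2⟩,
    fun v => ⟨g • v.1, mem_smul_iff.2 (by simp)⟩, fun v => by simp, fun v => by simp⟩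

omit [Finite G] [Finite V] in
theorem inv_iff_le_stab {A : Subgroup G} {S : AddSubgroup V} :
    Inv A (S : Set V) ↔ A ≤ stabilizer G S := by
  constructor
  · intro h g hg
    rw [mem_stabilizer_iff]
    ext v
    rw [mem_smul_iff]
    exact ⟨fun hv => by simpa using h g hg _ hv, fun hv => h _ (A.inv_mem hg) _ hv⟩
  · intro h g hg v hv
    have := mem_stabilizer_iff.1 (h hg)
    rw [SetLike.mem_coe, ← this, mem_smul_iff]
    simpa using hv

/-- the panel lemma -/
theorem panel {Bo P : Subgroup G} (hle : Bo ≤ P) (h3 : Nat.card P = 3 * Nat.card Bo)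
    {U E : AddSubgroup V} (hEU : E ≤ U) (hc : Nat.card U = 2 * Nat.card E)
    (hU : Inv P (U : Set V)) (hE : Inv Bo (E : Set V)) (ht : Tr Bo ((U : Set V) \ E))
    (hn : ¬ Inv P (E : Set V)) :
    ∃ E2 : AddSubgroup V, E2 ≤ E ∧ Nat.card E = 2 * Nat.card E2 ∧ Inv P (E2 : Set V) ∧
      Tr Bo ((E : Set V) \ E2) := by
  have hB1 : Bo ≤ P ⊓ stabilizer G E := le_inf hle (inv_iff_le_stab.1 hE)
  have h1 := ncard_orb_mul P E
  obtain ⟨j, hj⟩ := Subgroup.card_dvd_of_le hB1
  have hp : 0 < Nat.card Bo := Nat.card_pos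
  have h2 : (orb P E).ncard * j = 3 := by
    apply Nat.eq_of_mul_eq_mul_right hp
    rw [← h3, ← h1, hj]; ring
  obtain ⟨π, hπ, hπE⟩ : ∃ π ∈ P, π • E ≠ E := by
    by_contra! hc
    exact hn (inv_iff_le_stab.2 hc)
  have hΩ : (orb P E).ncard = 3 := by
    rcases (Nat.dvd_prime Nat.prime_three).1 (Dvd.intro _ h2) with h | h
    · exfalso
      obtain ⟨a, ha⟩ := Set.ncard_eq_one.1 h
      have e1 : E ∈ orb P E := mem_orb_self _ _
      have e2 : π • E ∈ orb P E := ⟨π, hπ, rfl⟩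
      rw [ha] at e1 e2
      exact hπE (e2.trans e1.symm)
    · exact h
  have hj1 : j = 1 := by rw [hΩ] at h2; omega
  have hBeq : Bo = P ⊓ stabilizer G E :=
    Subgroup.eq_of_le_of_card_ge hB1 (by rw [hj, hj1]; omega)
  have hmem : ∀ E' ∈ orb P E, E' ≤ U ∧ Nat.card U = 2 * Nat.card E' := by
    rintro _ ⟨g, hg, rfl⟩
    refine ⟨fun v hv => ?_, by rw [card_smul]; exact hc⟩
    simpa using hU g hg _ (hEU (mem_smul_iff.1 hv))
  set E' := π • E with hE'
  have hE'm : E' ∈ orb P E := ⟨π, hπ, rfl⟩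
  have hi := card_inf_of_index_two hEU (hmem E' hE'm).1 hc (hmem E' hE'm).2 hπE.symm
  set B2 := P ⊓ stabilizer G E' with hB2
  have ht2 : Tr B2 ((U : Set V) \ E') := by
    intro z hz w hw
    have hz' : π⁻¹ • z ∈ (U : Set V) \ E :=
      ⟨hU _ (P.inv_mem hπ) _ hz.1, fun h => hz.2 (mem_smul_iff.2 h)⟩
    have hw' : π⁻¹ • w ∈ (U : Set V) \ E :=
      ⟨hU _ (P.inv_mem hπ) _ hw.1, fun h => hw.2 (mem_smul_iff.2 h)⟩
    obtain ⟨g, hg, e⟩ := ht _ hz' _ hw'
    refine ⟨π * g * π⁻¹, ⟨P.mul_mem (P.mul_mem hπ (hle hg)) (P.inv_mem hπ), ?_⟩, ?_⟩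
    · show (π * g * π⁻¹) • π • E = π • E
      rw [mul_smul, inv_smul_smul, mul_smul, mem_stabilizer_iff.1 (hB1 hg).2]
    · rw [mul_smul, mul_smul, e, smul_inv_smul]
  have hi2 : Inv B2 ((U : Set V) \ E') :=
    (hU.mono inf_le_left).diff (inv_iff_le_stab.2 inf_le_right)
  set D := B2 ⊓ stabilizer G E with hD
  have hDB : D ≤ Bo := by rw [hBeq]; exact inf_le_inf_right _ inf_le_left
  have hiD : Inv D ((E : Set V) \ E') :=
    (inv_iff_le_stab.2 inf_le_right).diff (inv_iff_le_stab.2 (inf_le_left.trans inf_le_right))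
  have hcd := ncard_diff' E E'
  have htD : Tr D ((E : Set V) \ E') := by
    refine Tr.of_ncard_le (Set.toFinite _) hiD fun z hz => ?_
    have d := orb_dc B2 z E
    have hz' : z ∈ (U : Set V) \ E' := ⟨hEU hz.1, hz.2⟩
    rw [ht2.orb_eq hi2 hz', ncard_diff (hmem E' hE'm).1] at d
    have a1 := ncard_orb_pos (B2 ⊓ stabilizer G z) E
    have a2 : (orb B2 E).ncard ≤ 2 := by
      have : orb B2 E ⊆ orb P E \ {E'} := by
        rintro _ ⟨g, hg, rfl⟩
        refine ⟨⟨g, hg.1, rfl⟩, fun h => hπE ?_⟩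
        have h' : g • E = g • E' := by rw [mem_stabilizer_iff.1 hg.2]; exact h
        exact (smul_left_cancel g h').symm
      have := Set.ncard_le_ncard this ((orb_finite P E).diff)
      rw [Set.ncard_diff_singleton_of_mem hE'm] at this
      omega
    have a3 := (hmem E' hE'm).2
    have a4 : Nat.card U - Nat.card E' = Nat.card E := by omega
    rw [a4, ← hD] at d
    nlinarith
  obtain ⟨z, hz⟩ : ((E : Set V) \ E').Nonempty := by
    rw [← Set.ncard_pos]
    have : 0 < Nat.card ↥(E ⊓ E') := Nat.card_pos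
    omega
  have key : ∀ E'' ∈ orb P E, E ⊓ E' ≤ E'' := by
    intro E'' hE''
    by_cases e1 : E'' = E
    · rw [e1]; exact inf_le_left
    by_cases e2 : E'' = E'
    · rw [e2]; exact inf_le_right
    have hΩ' : orb P E = {E, E', E''} := by
      symm
      apply Set.eq_of_subset_of_ncard_le _ _ (orb_finite P E)
      · rintro _ (rfl | rfl | rfl)
        exacts [mem_orb_self _ _, hE'm, hE'']
      · rw [hΩ, Set.ncard_eq_three.2 ⟨E, E', E'', hπE.symm, Ne.symm e1, Ne.symm e2, rfl⟩]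
    have hD'' : Inv D (E'' : Set V) := by
      rw [inv_iff_le_stab]
      intro d hd
      have : d • E'' ∈ orb P E := inv_orb P E d hd.1.1 _ hE''
      rw [hΩ'] at this
      rcases this with h | h | h
      · exact absurd (smul_left_cancel d (h.trans (mem_stabilizer_iff.1 hd.2).symm)) e1
      · exact absurd (smul_left_cancel d (h.trans (mem_stabilizer_iff.1 hd.1.2).symm)) e2
      · exact h
    have hz'' : ∀ w ∈ (E : Set V) \ E', w ∉ E'' := by
      intro w hw hw''
      have : E ≤ E'' := by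
        refine le_of_diff_subset hz.1 hz.2 fun u hu => ?_
        obtain ⟨d, hd, rfl⟩ := htD w hw u hu
        exact hD'' d hd w hw''
      have a := (hmem E'' hE'').2
      exact e1 (AddSubgroup.eq_of_le_of_card_ge this (by omega)).symm
    have hi' := card_inf_of_index_two hEU (hmem E'' hE'').1 hc (hmem E'' hE'').2 (Ne.symm e1)
    have : E ⊓ E'' ≤ E ⊓ E' := by
      intro w hw
      refine ⟨hw.1, ?_⟩
      by_contra hc
      exact hz'' w ⟨hw.1, hc⟩ hw.2
    rw [← AddSubgroup.eq_of_le_of_card_ge this (by omega)]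
    exact inf_le_right
  refine ⟨E ⊓ E', inf_le_left, hi, fun g hg v hv => ⟨?_, ?_⟩, ?_⟩
  · have := key (g⁻¹ • E) ⟨g⁻¹, P.inv_mem hg, rfl⟩ hv
    simpa [mem_smul_iff] using this
  · have := key (g⁻¹ • E') (inv_orb P E _ (P.inv_mem hg) _ hE'm) hv
    simpa [mem_smul_iff] using this
  · have : (E : Set V) \ (E ⊓ E' : AddSubgroup V) = (E : Set V) \ E' := by
      ext v; simp only [Set.mem_diff, SetLike.mem_coe, AddSubgroup.mem_inf]; tauto
    rw [this]
    exact htD.mono hDB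

/-- the alternation lemma -/
theorem alternate {Bo : Subgroup G} : ∀ (m : ℕ) (P Q : Subgroup G), Bo ≤ P → Bo ≤ Q →
    Nat.card P = 3 * Nat.card Bo → Nat.card Q = 3 * Nat.card Bo →
    ∀ (U E : AddSubgroup V), Nat.card E = m → E ≤ U → Nat.card U = 2 * Nat.card E →
    Inv P (U : Set V) → Inv Q (E : Set V) → Tr Bo ((U : Set V) \ E) →
    ∃ Z : AddSubgroup V, Z ≤ E ∧ Inv P (Z : Set V) ∧ Inv Q (Z : Set V) ∧
      ∀ S : AddSubgroup V, S ≤ E → Inv Bo (S : Set V) → S ≤ Z ∨ (Z ≤ S ∧ ∃ i : ℕ,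
        Nat.card E = 2 ^ i * Nat.card S ∧ (Even i → ¬ Inv P (S : Set V)) ∧
          (Odd i → ¬ Inv Q (S : Set V))) := by
  intro m
  induction m using Nat.strong_induction_on with
  | _ m ih =>
    intro P Q hP hQ h3 h3' U E hm hEU hc hU hE ht
    by_cases hn : Inv P (E : Set V)
    · exact ⟨E, le_rfl, hn, hE, fun S hS _ => Or.inl hS⟩
    obtain ⟨E2, a1, a2, a3, a4⟩ := panel hP h3 hEU hc hU (hE.mono hQ) ht hn
    have hp : 0 < Nat.card E2 := Nat.card_pos
    obtain ⟨Z, z1, z2, z3, z4⟩ := ih (Nat.card E2) (by omega) Q P hQ hP h3' h3 E E2 rfl a1 a2 hE a3 a4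
    refine ⟨Z, z1.trans a1, z3, z2, fun S hS hSi => ?_⟩
    by_cases hS2 : S ≤ E2
    · rcases z4 S hS2 hSi with h | ⟨h, i, i1, i2, i3⟩
      · exact Or.inl h
      · refine Or.inr ⟨h, i + 1, by rw [a2, i1]; ring, fun he => i3 ?_, fun he => i2 ?_⟩
        · exact Nat.not_even_iff_odd.1 (Nat.even_add_one.1 he)
        · exact Nat.not_odd_iff_even.1 (Nat.odd_add_one.1 he)
    · obtain ⟨z, hz, hz'⟩ := SetLike.not_le_iff_exists.1 hS2
      have : E ≤ S := by
        refine le_of_diff_subset (hS hz) hz' fun u hu => ?_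
        obtain ⟨d, hd, rfl⟩ := a4 z ⟨hS hz, hz'⟩ u hu
        exact hSi d hd z hz
      obtain rfl := le_antisymm hS this
      exact Or.inr ⟨z1.trans a1, 0, by simp, fun _ => hn, fun h => absurd h (by decide)⟩

end Panel

end Cfsg.Agent.Proj.CK
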