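import Cfsg.Agent.Proj.CKLarge

/-!
# Cameron–Kantor for `q = 2`: the parameter `4` is impossible in odd dimension
-/

set_option autoImplicit false

namespace Cfsg.Agent.Proj.CK

open MulAction Pointwise

variable {G V V' : Type*} [Group G] [AddCommGroup V] [AddCommGroup V'] [DistribMulAction G V]
  [DistribMulAction G V'] [Finite V] [Finite V'] [Module (ZMod 2) V] [Module (ZMod 2) V']

namespace St

variable {S : St G V V'} [Finite G]

theorem Sp.of_mem_pl {x y a c : V} {φ : V'} (h : S.Sp x y φ) (ha : a ∈ pl x y) (hc : c ∈ pl x y)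
    (a0 : a ≠ 0) (c0 : c ≠ 0) (hca : c ≠ a) : S.Sp a c φ := by
  have e1 : x + y = y + x := add_comm _ _
  rcases mem_pl.1 ha with rfl | rfl | rfl | rfl <;> rcases mem_pl.1 hc with e | e | e | e <;>
    first
    | exact absurd rfl a0
    | exact absurd e c0
    | exact absurd e hca
    | (rw [e]; first
        | exact h | exact h.add | exact h.symm | exact h.add.symm
        | exact e1 ▸ h.symm.add | exact e1 ▸ h.symm.add.symm)

variable (S) in
/-- chambers -/
structure Ch (x y : V) (φ ψ : V') : Prop where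
  sp : S.Sp x y φ
  sp' : S.flip.Sp φ ψ x
  lam : S.Lam x y = pl φ ψ
  lam' : S.flip.Lam φ ψ = pl x y

theorem Ch.flip {x y : V} {φ ψ : V'} (c : S.Ch x y φ ψ) : S.flip.Ch φ ψ x y :=
  ⟨c.sp', c.sp, c.lam', c.lam⟩

theorem Hyp.exists_ch (H : S.Hyp 4) : ∃ x y φ ψ, S.Ch x y φ ψ := by
  obtain ⟨x, φ, h1, h2, h3⟩ := S.exists_flag
  obtain ⟨y, h⟩ := S.exists_sp h1 h2 h3
  have cL := H.hγ.cL h.hx h.hy h.yx
  obtain ⟨ψ, b1, b2⟩ := exists_not_mem_of_card_lt (T := S.Lam x y) (X := ln φ)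
    (by rw [cL, card_ln h2]; omega)
  rcases b1 with b1 | b1
  · exact absurd (Or.inl b1) b2
  have b3 : ψ ≠ φ := fun hc => b2 (Or.inr hc)
  have a1 := H.lj h b1 b3
  have a2 := H.lj h.symm b1.symm b3
  refine ⟨x, y, φ, ψ, h, a1, ?_, ?_⟩
  · refine (AddSubgroup.eq_of_le_of_card_ge (sup_le ?_ ?_) ?_).symm
    · rintro v (rfl | rfl); exacts [zero_mem _, Or.inr h]
    · rintro v (rfl | rfl); exacts [zero_mem _, Or.inr b1]
    · rw [cL]; exact (card_pl h2 b1.hφ b3).ge
  · refine (AddSubgroup.eq_of_le_of_card_ge (sup_le ?_ ?_) ?_).symm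
    · rintro v (rfl | rfl); exacts [zero_mem _, Or.inr a1]
    · rintro v (rfl | rfl); exacts [zero_mem _, Or.inr a2]
    · rw [H.hγ'.cL h2 b1.hφ b3]; exact (card_pl h1 h.hy h.yx).ge

namespace Ch

variable {x y : V} {φ ψ : V'} (c : S.Ch x y φ ψ)
include c

theorem stab_le : stabilizer G (pl x y) ≤ stabilizer G (pl φ ψ) := by
  intro g hg
  rw [mem_stabilizer_iff, ← c.lam]
  refine (AddSubgroup.eq_of_le_of_card_ge ?_ (card_smul _ _).le).symm
  rw [← Lam_smul]
  rintro χ (rfl | h)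
  · exact zero_mem _
  · exact Or.inr (h.of_mem_pl (stab_mem hg (left_mem_pl _ _)) (stab_mem hg (right_mem_pl _ _))
      (smul_ne0 h.hx) (smul_ne0 h.hy) fun e => h.yx (smul_left_cancel g e))

theorem stab_eq : stabilizer G (pl x y) = stabilizer G (pl φ ψ) :=
  le_antisymm c.stab_le c.flip.stab_le

theorem three : (orb (stabilizer G x ⊓ stabilizer G y) φ).ncard = 3 := by
  rw [c.sp.ncard_orb', c.lam, card_pl c.sp'.hx c.sp'.hy c.sp'.yx]

theorem Bo_eq : stabilizer G φ ⊓ stabilizer G (pl φ ψ) ⊓ stabilizer G x =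
    stabilizer G x ⊓ stabilizer G (pl x y) ⊓ stabilizer G φ := by
  rw [c.stab_eq]; ext g; simp only [Subgroup.mem_inf]; tauto

theorem pair_le : stabilizer G φ ⊓ stabilizer G ψ ≤ stabilizer G φ ⊓ stabilizer G (pl φ ψ) :=
  fun k hk => ⟨hk.1, smul_pl_eq (by rw [mem_stabilizer_iff.1 hk.1]; exact left_mem_pl _ _)
    (by rw [mem_stabilizer_iff.1 hk.2]; exact right_mem_pl _ _)⟩

theorem half : ∃ (B : AddSubgroup V) (A : AddSubgroup V'),
    (∀ v, v ∈ B ↔ v = 0 ∨ v ∈ orb (stabilizer G x ⊓ stabilizer G φ ⊔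
      stabilizer G φ ⊓ stabilizer G (pl φ ψ)) x) ∧
    (∀ χ, χ ∈ A ↔ χ ∈ ln φ ∨ χ ∈ orb (stabilizer G x ⊓ stabilizer G φ ⊔
      stabilizer G φ ⊓ stabilizer G (pl φ ψ)) ψ) ∧ Nat.card A = 2 * Nat.card B := by
  set F := stabilizer G x ⊓ stabilizer G φ with hF
  set Q := stabilizer G φ ⊓ stabilizer G (pl φ ψ) with hQ
  set X := F ⊔ Q with hX
  have hXφ : X ≤ stabilizer G φ := sup_le inf_le_right inf_le_left
  have nψ : ∀ χ ∈ orb X ψ, χ ∉ ln φ := by
    rintro _ ⟨k, hk, rfl⟩ (e | e)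
    · exact smul_ne0 c.sp'.hy e
    · exact c.sp'.yx (smul_left_cancel k (e.trans (mem_stabilizer_iff.1 (hXφ hk)).symm))
  obtain ⟨t, t1, t2⟩ := S.flip.cone1 c.sp'.hx c.sp'.hφ c.sp'.xφ c.sp'.hy c.sp'.yx
  have aφ : ∀ χ ∈ orb X ψ, χ + φ ∈ orb X ψ := by
    rintro _ ⟨k, hk, rfl⟩
    exact ⟨k * t, X.mul_mem hk ((le_sup_left : F ≤ X) ⟨t1.2, t1.1⟩), by
      rw [mul_smul, t2, smul_add, mem_stabilizer_iff.1 (hXφ hk)]⟩
  let B : AddSubgroup V :=
    { carrier := {v | v = 0 ∨ v ∈ orb X x}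
      zero_mem' := Or.inl rfl
      neg_mem' := fun {a} ha => by rwa [ZModModule.neg_eq_self]
      add_mem' := by
        rintro a b (rfl | ha) hb
        · simpa using hb
        rcases hb with rfl | hb
        · exact Or.inr (by simpa using ha)
        by_cases e : b = a
        · exact Or.inl (by rw [e, c2])
        obtain ⟨k, hk, rfl⟩ := ha
        have b0 : b ≠ 0 := by obtain ⟨k', -, rfl⟩ := hb; exact smul_ne0 c.sp.hx
        obtain ⟨g, g1, g2⟩ := S.cone1 (smul_ne0 (g := k) c.sp.hx) c.sp.hφ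
          (by rw [← mem_stabilizer_iff.1 (hXφ hk), S.inv, c.sp.xφ]) b0 e
        have : k⁻¹ * g * k ∈ X := (le_sup_left : F ≤ X) ⟨mem_stabilizer_iff.2 <| by
          rw [mul_smul, mul_smul, mem_stabilizer_iff.1 g1.1, inv_smul_smul],
          (stabilizer G φ).mul_mem ((stabilizer G φ).mul_mem (hXφ (X.inv_mem hk)) g1.2) (hXφ hk)⟩
        have hg : g ∈ X := by
          simpa [mul_assoc] using X.mul_mem (X.mul_mem hk this) (X.inv_mem hk)
        right
        rw [add_comm, ← g2]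
        exact inv_orb X x g hg b hb }
  let A : AddSubgroup V' :=
    { carrier := {χ | χ ∈ ln φ ∨ χ ∈ orb X ψ}
      zero_mem' := Or.inl (zero_mem _)
      neg_mem' := fun {a} ha => by rwa [ZModModule.neg_eq_self]
      add_mem' := by
        have h1 : ∀ a ∈ ln φ, ∀ b ∈ orb X ψ, b + a ∈ orb X ψ := by
          rintro a (rfl | rfl) b hb
          · simpa using hb
          · exact aφ b hb
        rintro a b (ha | ha) (hb | hb)
        · exact Or.inl (add_mem ha hb)
        · exact Or.inr (add_comm a b ▸ h1 a ha b hb)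
        · exact Or.inr (h1 b hb a ha)
        have na := nψ a ha
        have nb := nψ b hb
        simp only [mem_ln, not_or] at na nb
        by_cases e : b ∈ pl φ a
        · rcases mem_pl.1 e with e | e | e | e
          · exact absurd e nb.1
          · exact absurd e nb.2
          · exact Or.inl (Or.inl (by rw [e, c2]))
          · exact Or.inl (Or.inr (by rw [e, ← add_assoc, c2, zero_add]))
        obtain ⟨g, g1, g2⟩ := S.flip.cone2 c.sp.hφ na.1 na.2 e (right_mem_pl _ _)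
        obtain ⟨k, hk, rfl⟩ := ha
        have : k⁻¹ * g * k ∈ X := (le_sup_right : Q ≤ X) (c.pair_le ⟨
          (stabilizer G φ).mul_mem ((stabilizer G φ).mul_mem (hXφ (X.inv_mem hk)) g1.1) (hXφ hk),
          mem_stabilizer_iff.2 <| by
            rw [mul_smul, mul_smul, mem_stabilizer_iff.1 g1.2, inv_smul_smul]⟩)
        have hg : g ∈ X := by
          simpa [mul_assoc] using X.mul_mem (X.mul_mem hk this) (X.inv_mem hk)
        right
        rw [add_comm, ← g2]
        exact inv_orb X ψ g hg b hb }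
  refine ⟨B, A, fun _ => Iff.rfl, fun _ => Iff.rfl, ?_⟩
  have e1 : orb X x = (B : Set V) \ (⊥ : AddSubgroup V) := by
    ext v
    refine ⟨fun h => ⟨Or.inr h, ?_⟩, fun h => h.1.resolve_left h.2⟩
    obtain ⟨k, -, rfl⟩ := h
    exact smul_ne0 c.sp.hx
  have e2 : orb X ψ = (A : Set V') \ ln φ := by
    ext v
    exact ⟨fun h => ⟨Or.inr h, nψ v h⟩, fun h => h.1.resolve_left h.2⟩
  have h1 := ncard_orb_mul X x
  have h2 := ncard_orb_mul X ψ
  have h3 := ncard_orb_mul Q ψ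
  have p1 := ncard_orb_pos X x
  have p2 := ncard_orb_pos X ψ
  rw [e1, ncard_diff bot_le, AddSubgroup.card_bot] at h1 p1
  rw [e2, ncard_diff (fun v hv => Or.inl hv), card_ln c.sp.hφ] at h2 p2
  rw [orb_pl c.sp'.hy c.sp'.yx le_rfl ⟨t, ⟨t1.1, smul_pl_eq
    (by rw [mem_stabilizer_iff.1 t1.1]; exact left_mem_pl _ _)
    (by rw [t2]; exact mem_pl.2 (by simp))⟩, t2⟩, Set.ncard_pair (by simpa using c.sp.hφ)] at h3
  have e3 : X ⊓ stabilizer G x = F :=
    le_antisymm (fun k hk => ⟨hk.2, hXφ hk.1⟩) (le_inf le_sup_left inf_le_left)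
  have e4 : X ⊓ stabilizer G ψ = Q ⊓ stabilizer G ψ :=
    le_antisymm (fun k hk => ⟨c.pair_le ⟨hXφ hk.1, hk.2⟩, hk.2⟩) (inf_le_inf_right _ le_sup_right)
  rw [e3] at h1
  rw [e4] at h2
  have h4 := c.sp.card_F.1
  have h5 := c.sp'.card_F.2
  rw [c.three, ← hF] at h4
  rw [c.flip.three, c.Bo_eq, ← h4, ← hQ] at h5
  have hp : 0 < Nat.card ↥(Q ⊓ stabilizer G ψ) := Nat.card_pos
  have : Nat.card A - 2 = (Nat.card B - 1) * 2 := by
    apply Nat.eq_of_mul_eq_mul_right hp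
    rw [h2, mul_assoc, h3, h5, h1]
  omega

theorem main (hs : Even S.s) {B R : AddSubgroup V} {A D : AddSubgroup V'}
    (hB : ∀ v, v ∈ B ↔ v = 0 ∨ v ∈ orb (stabilizer G x ⊓ stabilizer G φ ⊔
      stabilizer G φ ⊓ stabilizer G (pl φ ψ)) x)
    (hA : ∀ χ, χ ∈ A ↔ χ ∈ ln φ ∨ χ ∈ orb (stabilizer G x ⊓ stabilizer G φ ⊔
      stabilizer G φ ⊓ stabilizer G (pl φ ψ)) ψ) (cA : Nat.card A = 2 * Nat.card B)
    (hD : ∀ v, v ∈ D ↔ v = 0 ∨ v ∈ orb (stabilizer G φ ⊓ stabilizer G x ⊔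
      stabilizer G x ⊓ stabilizer G (pl x y)) φ)
    (hR : ∀ χ, χ ∈ R ↔ χ ∈ ln x ∨ χ ∈ orb (stabilizer G φ ⊓ stabilizer G x ⊔
      stabilizer G x ⊓ stabilizer G (pl x y)) y) (cR : Nat.card R = 2 * Nat.card D)
    (hle : Nat.card B ≤ Nat.card D) : False := by
  rw [inf_comm (stabilizer G φ) (stabilizer G x)] at hD hR
  set F := stabilizer G x ⊓ stabilizer G φ with hF
  set Q := stabilizer G φ ⊓ stabilizer G (pl φ ψ) with hQ
  set P := stabilizer G x ⊓ stabilizer G (pl x y) with hP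
  set X := F ⊔ Q with hX
  set Y := F ⊔ P with hY
  set Bo := P ⊓ stabilizer G φ with hBo
  have hXφ : X ≤ stabilizer G φ := sup_le inf_le_right inf_le_left
  have hYx : Y ≤ stabilizer G x := sup_le inf_le_left inf_le_left
  have hBF : Bo ≤ F := inf_le_inf_right _ inf_le_left
  have hBP : Bo ≤ P := inf_le_left
  have hFX : F ≤ X := le_sup_left
  have hFY : F ≤ Y := le_sup_left
  have hQX : Q ≤ X := le_sup_right
  have hPY : P ≤ Y := le_sup_right
  have c1 : Nat.card F = 3 * Nat.card Bo := by rw [← c.three]; exact c.sp.card_F.1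
  have c2 : Nat.card P = 3 * Nat.card Bo := by rw [← c.three]; exact c.sp.card_F.2
  have iB : Inv X (B : Set V) := fun g hg v hv => (hB _).2 <| by
    rcases (hB v).1 hv with rfl | h
    exacts [Or.inl (smul_zero g), Or.inr (inv_orb X x g hg v h)]
  have iD : Inv Y (D : Set V') := fun g hg v hv => (hD _).2 <| by
    rcases (hD v).1 hv with rfl | h
    exacts [Or.inl (smul_zero g), Or.inr (inv_orb Y φ g hg v h)]
  have iA : Inv X (A : Set V') := fun g hg v hv => (hA _).2 <| by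
    rcases (hA v).1 hv with h | h
    exacts [Or.inl (inv_ln (A := X) (fun _ h => hXφ h) g hg v h), Or.inr (inv_orb X ψ g hg v h)]
  have iR : Inv Y (R : Set V) := fun g hg v hv => (hR _).2 <| by
    rcases (hR v).1 hv with h | h
    exacts [Or.inl (inv_ln (A := Y) (fun _ h => hYx h) g hg v h), Or.inr (inv_orb Y y g hg v h)]
  have xB : x ∈ B := (hB x).2 (Or.inr (mem_orb_self _ _))
  have LB : pl x y ≤ B := by
    refine sup_le ?_ ?_
    · rintro v (rfl | rfl); exacts [zero_mem _, xB]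
    · rintro v (rfl | rfl)
      · exact zero_mem _
      obtain ⟨g, g1, g2, g3⟩ := S.swap c.sp.hx c.sp.hy c.sp.hφ c.sp.xφ c.sp.yφ
      exact (hB _).2 (Or.inr ⟨g, hQX ⟨g1, c.stab_le (smul_pl_eq (by rw [g2]; exact right_mem_pl _ _)
        (by rw [g3]; exact left_mem_pl _ _))⟩, g2⟩)
  have LR : pl x y ≤ R := by
    refine sup_le (fun v hv => (hR v).2 (Or.inl hv)) ?_
    rintro v (rfl | rfl)
    exacts [zero_mem _, (hR _).2 (Or.inr (mem_orb_self _ _))]
  have iL : Inv P (S.perp (pl x y) : Set V') := S.inv_perp (inv_iff_le_stab.2 inf_le_right)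
  have ix : Inv Y (S.perp (ln x) : Set V') := S.inv_perp (inv_ln fun _ h => hYx h)
  obtain ⟨Z, z1, z2, z3, z4⟩ := alternate _ F P hBF hBP c1 c2 (S.perp (ln x)) (S.perp (pl x y)) rfl
    (S.perp_anti le_sup_left) (by
      rw [S.card_perp_ln c.sp.hx, S.card_perp_pl c.sp.hx c.sp.hy c.sp.yx, pow_succ']) (ix.mono hFY)
    iL (((S.a3 c.sp.hx c.sp.hy c.sp.yx).mono c.flip.pair_le).of_odd ((ix.mono hPY).diff iL) hBP c2
      (by decide) (S.ncard_a3 c.sp.hx c.sp.hy c.sp.yx))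
  have hp : 0 < Nat.card B := Nat.card_pos
  rcases z4 (S.perp B) (S.perp_anti LB) (S.inv_perp (iB.mono (hBF.trans hFX))) with
    h | ⟨b1, i, b2, b3, b4⟩
  · have : Z ≤ S.perp R := by
      intro χ hχ v hv
      rcases (hR v).1 hv with h | ⟨k, hk, rfl⟩
      · exact z1 hχ v ((le_sup_left : ln x ≤ _) h)
      · rw [S.inv']
        exact z1 (z2.sup z3 _ (Y.inv_mem hk) χ hχ) y (right_mem_pl _ _)
    have := AddSubgroup.card_le_of_le (S.le_of_perp_le (h.trans this))
    omega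
  have hi : Odd i := Nat.not_even_iff_odd.1 fun h => b3 h (S.inv_perp (iB.mono hFX))
  have nP : ¬ Inv P (B : Set V) := fun h => b4 hi (S.inv_perp h)
  have BR : B ≤ R := by
    rcases z4 (S.perp R) (S.perp_anti LR) (S.inv_perp (iR.mono (hBF.trans hFY))) with
      h | ⟨-, j, -, a3, a4⟩
    · exact S.le_of_perp_le (h.trans b1)
    · rcases Nat.even_or_odd j with h | h
      · exact absurd (S.inv_perp (iR.mono hFY)) (a3 h)
      · exact absurd (S.inv_perp (iR.mono hPY)) (a4 h)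
  have cB : Nat.card B = 2 ^ (i + 2) := by
    have := S.card_perp_mul B
    rw [S.card_perp_pl c.sp.hx c.sp.hy c.sp.yx] at b2
    apply Nat.eq_of_mul_eq_mul_right (Nat.card_pos (α := S.perp B))
    rw [this, show S.s + 3 = (S.s + 1) + 2 by ring, pow_add _ (S.s + 1), b2]; ring
  obtain ⟨Z', y1, y2, y3, y4⟩ := alternate _ P F hBP hBF c2 c1 (⊤ : AddSubgroup V)
    (S.flip.perp (ln φ)) rfl le_top (by
      rw [S.flip.card_perp_ln c.sp.hφ, AddSubgroup.card_top, S.cV, pow_succ', flip_s]) (inv_top _)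
    (S.flip.inv_perp (A := F) (inv_ln fun _ h => h.2)) c.sp.tr_Bo
  have DA : D ≤ A := by
    rcases y4 (S.flip.perp A) (S.flip.perp_anti fun v hv => (hA v).2 (Or.inl hv))
      (S.flip.inv_perp (iA.mono (hBF.trans hFX))) with h | ⟨-, j, a2, -, a4⟩
    · refine S.flip.le_of_perp_le (h.trans ?_)
      intro v hv χ hχ
      rcases (hD χ).1 hχ with rfl | ⟨k, hk, rfl⟩
      · simp
      · rw [S.flip.inv']
        exact y1 (y3.sup y2 _ (Y.inv_mem hk) v hv) φ (Or.inr rfl)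
    · exfalso
      have := S.flip.card_perp_mul A
      rw [S.flip.card_perp_ln c.sp.hφ] at a2
      rw [cA, cB, pow_succ _ (S.flip.s + 2), a2] at this
      have h2 : 2 ^ (i + 2) = 2 ^ j := by
        apply Nat.eq_of_mul_eq_mul_right (Nat.card_pos (α := S.flip.perp A))
        linarith
      refine a4 ?_ (S.flip.inv_perp (iA.mono hFX))
      rw [← Nat.pow_right_injective le_rfl h2]
      exact hi.add_even (by decide)
  by_cases e : D = A
  · apply nP
    intro π hπ v hv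
    rcases (hB v).1 hv with rfl | ⟨k, hk, rfl⟩
    · simp
    have iA' : Inv Y (A : Set V') := e ▸ iD
    have φA : φ ∈ A := (hA φ).2 (Or.inl (Or.inr rfl))
    have a1 : k⁻¹ • π⁻¹ • φ ∈ D := by
      rw [e]; exact iA _ (X.inv_mem hk) _ (iA' _ (Y.inv_mem (hPY hπ)) _ φA)
    rcases (hD _).1 a1 with h | ⟨π', h1, h2⟩
    · exact absurd h (smul_ne0 (smul_ne0 c.sp.hφ))
    have u1 : (π * k * π') • φ = φ := by
      rw [mul_smul, mul_smul, h2, smul_inv_smul, smul_inv_smul]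
    have u2 : (π * k * π') • ψ ∈ A := by
      rw [mul_smul, mul_smul]
      exact iA' _ (hPY hπ) _ (iA _ hk _ (iA' _ h1 _ ((hA ψ).2 (Or.inr (mem_orb_self _ _)))))
    rcases (hA _).1 u2 with (h | h) | ⟨k', h3, h4⟩
    · exact absurd h (smul_ne0 c.sp'.hy)
    · exact absurd (smul_left_cancel _ (h.trans u1.symm)) c.sp'.yx
    have u3 : k'⁻¹ * (π * k * π') ∈ X := hQX (c.pair_le
      ⟨(stabilizer G φ).mul_mem (hXφ (X.inv_mem h3)) u1, mem_stabilizer_iff.2 <| by
        rw [mul_smul, ← h4, inv_smul_smul]⟩)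
    have u4 : π * k * π' ∈ X := by simpa using X.mul_mem h3 u3
    have := iB _ u4 x xB
    rwa [mul_smul, mul_smul, mem_stabilizer_iff.1 (hYx h1)] at this
  have cD : Nat.card D = Nat.card B := by
    have := two_mul_card_le_of_lt DA e
    omega
  obtain ⟨π, hπ, hπB⟩ : ∃ π ∈ P, π • B ≠ B := by
    by_contra! hc
    exact nP (inv_iff_le_stab.2 hc)
  have eR : B ⊔ π • B = R := by
    refine AddSubgroup.eq_of_le_of_card_ge (sup_le BR fun v hv => ?_) ?_
    · simpa using iR _ (hPY hπ) _ (BR (mem_smul_iff.1 hv))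
    · have := two_mul_card_le_of_lt (le_sup_left : B ≤ B ⊔ π • B) fun e => hπB
        (AddSubgroup.eq_of_le_of_card_ge (le_sup_right.trans e.ge) (card_smul π B).ge)
      omega
  have iR' : Inv Q (R : Set V) := by
    intro k hk v hv
    rw [← eR] at hv
    obtain ⟨a, ha, b, hb, rfl⟩ := AddSubgroup.mem_sup.1 hv
    rw [smul_add]
    refine R.add_mem (BR (iB _ (hQX hk) _ ha)) ?_
    have a1 : k • π • φ ∈ S.Lam x y := by
      rw [c.lam]; exact stab_mem hk.2 (stab_mem (c.stab_le hπ.2) (left_mem_pl _ _))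
    rcases a1 with h | h
    · exact absurd h (smul_ne0 (smul_ne0 c.sp.hφ))
    obtain ⟨g, g1, g2, g3⟩ := c.sp.conj h
    have hg : g ∈ P := c.flip.pair_le ⟨g1, g2⟩
    have u : g⁻¹ * k * π ∈ Q := ⟨mem_stabilizer_iff.2 <| by
      rw [mul_smul, mul_smul, ← g3, inv_smul_smul], Subgroup.mul_mem _ (Subgroup.mul_mem _
        (Subgroup.inv_mem _ (c.stab_le hg.2)) hk.2) (c.stab_le hπ.2)⟩
    have := iR _ (hPY hg) _ (BR (iB _ (hQX u) _ (mem_smul_iff.1 hb)))
    simpa [mul_smul] using this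
  refine rb (S := S) c.sp.hx c.sp.hφ hFX hXφ BR ?_ xB iB ((iR.mono hFY).sup iR')
    (fun v hv v0 => ((hB v).1 hv).resolve_left v0) (by omega) (by
      rw [cB, pow_add]; have : 0 < 2 ^ i := by positivity
      omega)
  by_contra hc
  obtain ⟨z, w1, w2⟩ := SetLike.not_le_iff_exists.1 hc
  have : (⊤ : AddSubgroup V) ≤ R := by
    refine le_of_diff_subset (z := z) trivial w2 fun u hu => ?_
    obtain ⟨d, hd, rfl⟩ := c.sp.tr_Bo z ⟨trivial, w2⟩ u hu
    exact iR d (hFY (hBF hd)) z w1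
  have h1 : Nat.card R = 2 ^ (S.s + 3) := by rw [top_le_iff.1 this, AddSubgroup.card_top, S.cV]
  rw [cR, cD, cB, ← pow_succ'] at h1
  have := Nat.pow_right_injective le_rfl h1
  have : i = S.s := by omega
  rw [this] at hi
  exact Nat.not_even_iff_odd.2 hi hs

end Ch

theorem Hyp.false {γ : ℕ} (H : S.Hyp γ) (hs : Even S.s) : False := by
  obtain rfl := H.eq_four'
  obtain ⟨x, y, φ, ψ, c⟩ := H.exists_ch
  obtain ⟨B, A, h1, h2, h3⟩ := c.half
  obtain ⟨D, R, h4, h5, h6⟩ := c.flip.half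
  rcases le_total (Nat.card B) (Nat.card D) with h | h
  · exact c.main hs h1 h2 h3 h4 h5 h6 h
  · exact c.flip.main hs h4 h5 h6 h1 h2 h3 h

end St

end Cfsg.Agent.Proj.CK
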