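import Cfsg.Agent.Proj.CKSp

/-!
# Cameron–Kantor for `q = 2`: the spaces `W1`, `Lam`
-/

set_option autoImplicit false

namespace Cfsg.Agent.Proj.CK

open MulAction Pointwise

variable {G V V' : Type*} [Group G] [AddCommGroup V] [AddCommGroup V'] [DistribMulAction G V]
  [DistribMulAction G V'] [Finite V] [Finite V'] [Module (ZMod 2) V] [Module (ZMod 2) V']

theorem smul_pl_eq {g : G} {x y : V} (h : g • x ∈ pl x y) (h' : g • y ∈ pl x y) :
    g ∈ stabilizer G (pl x y) := by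
  refine AddSubgroup.eq_of_le_of_card_ge (fun v hv => ?_) (card_smul g _).ge
  have := mem_smul_iff.1 hv
  rw [← smul_inv_smul g v]
  rcases mem_pl.1 this with e | e | e | e <;> rw [e]
  · simp
  · exact h
  · exact h'
  · rw [smul_add]; exact AddSubgroup.add_mem _ h' h

theorem stab_mem {g : G} {T : AddSubgroup V} (hg : g ∈ stabilizer G T) {v : V} (hv : v ∈ T) :
    g • v ∈ T :=
  (inv_iff_le_stab.2 le_rfl) g hg v hv

theorem orb_pl {A : Subgroup G} {x y : V} (hy : y ≠ 0) (hyx : y ≠ x)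
    (hA : A ≤ stabilizer G x ⊓ stabilizer G (pl x y)) (h : ∃ g ∈ A, g • y = y + x) :
    orb A y = {y, y + x} := by
  ext v
  constructor
  · rintro ⟨g, hg, rfl⟩
    rcases mem_pl.1 (stab_mem (hA hg).2 (right_mem_pl x y)) with e | e | e | e
    · exact absurd e (smul_ne0 hy)
    · exact absurd (smul_left_cancel g (e.trans (mem_stabilizer_iff.1 (hA hg).1).symm)) hyx
    · exact Or.inl e
    · exact Or.inr e
  · rintro (rfl | rfl)
    · exact mem_orb_self _ _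
    · exact h

namespace St

variable {S : St G V V'} [Finite G]

theorem Sp.uniq {x y y' : V} {φ : V'} (h : S.Sp x y φ) (h' : S.Sp x y' φ) :
    ∃ g ∈ stabilizer G x ⊓ stabilizer G φ, g • y = y' := by
  set F := stabilizer G x ⊓ stabilizer G φ with hF
  have key : ∀ {y : V} (h : S.Sp x y φ), ∃ W : AddSubgroup V, S.perp W ≤ S.perp (ln x) ∧
      orb F y = (W : Set V) \ ln x ∧ ∀ ψ, S.b x ψ = 0 → S.b y ψ = 1 →
      orb F ψ = (S.perp (ln x) : Set V') \ S.perp W := by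
    intro y h
    obtain ⟨W, a1, a2, a3⟩ := h.struct
    have hxW : ln x ≤ W := by rintro v (rfl | rfl); exacts [zero_mem _, a1]
    refine ⟨W, S.perp_anti hxW, a2, fun ψ b1 b2 => a3.orb_eq ?_ ⟨S.mem_perp_ln.2 b1, fun hc => ?_⟩⟩
    · refine (S.inv_perp (A := F) (inv_ln fun _ h => h.1)).diff (S.inv_perp fun g hg v hv => ?_)
      by_cases hl : v ∈ ln x
      · exact hxW (inv_ln (A := F) (fun _ h => h.1) g hg v hl)
      · have : v ∈ orb F y := by rw [a2]; exact ⟨hv, hl⟩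
        have := inv_orb F y g hg v this
        rw [a2] at this
        exact this.1
    · have : y ∈ (W : Set V) \ ln x := a2 ▸ mem_orb_self _ _
      rw [hc y this.1] at b2
      exact zero_ne_one b2
  obtain ⟨W, a1, a2, a3⟩ := key h
  obtain ⟨W', b1, b2, b3⟩ := key h'
  obtain ⟨ψ, c1, c2, c3⟩ : ∃ ψ, S.b x ψ = 0 ∧ S.b y ψ = 1 ∧ S.b y' ψ = 1 := by
    obtain ⟨ψ₁, d1, d2⟩ := S.exists_sep (S := ln x) (z := y)
      (by rintro (e | e); exacts [h.hy e, h.yx e])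
    obtain ⟨ψ₂, d3, d4⟩ := S.exists_sep (S := ln x) (z := y')
      (by rintro (e | e); exacts [h'.hy e, h'.yx e])
    rw [S.mem_perp_ln] at d1 d3
    rcases z2 (S.b y' ψ₁) with e | e
    · rcases z2 (S.b y ψ₂) with e' | e'
      · exact ⟨ψ₁ + ψ₂, by simp [d1, d3], by simp [d2, e'], by simp [d4, e]⟩
      · exact ⟨ψ₂, d3, e', d4⟩
    · exact ⟨ψ₁, d1, d2, e⟩
  have e := (a3 ψ c1 c2).symm.trans (b3 ψ c1 c3)
  have : W' ≤ W := by
    refine S.le_of_perp_le fun χ hχ => ?_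
    by_contra hc
    have : χ ∈ (S.perp (ln x) : Set V') \ S.perp W' := ⟨a1 hχ, hc⟩
    rw [← e] at this
    exact this.2 hχ
  have h1 : y' ∈ (W' : Set V) \ ln x := b2 ▸ mem_orb_self _ _
  have : y' ∈ orb F y := by rw [a2]; exact ⟨this h1.1, h1.2⟩
  exact this

theorem Sp.conj {x y x' y' : V} {φ φ' : V'} (h : S.Sp x y φ) (h' : S.Sp x' y' φ') :
    ∃ g : G, g • x = x' ∧ g • y = y' ∧ g • φ = φ' := by
  obtain ⟨g, a1, a2⟩ := S.flag h.hx h'.hx h.hφ h'.hφ (h.xφ.trans h'.xφ.symm)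
  have := h.smul g
  rw [a1, a2] at this
  obtain ⟨k, b1, b2⟩ := this.uniq h'
  exact ⟨k * g, by rw [mul_smul, a1, mem_stabilizer_iff.1 b1.1], by rw [mul_smul, b2],
    by rw [mul_smul, a2, mem_stabilizer_iff.1 b1.2]⟩

theorem Sp.orb_eq {x y : V} {φ : V'} (h : S.Sp x y φ) :
    orb (stabilizer G x ⊓ stabilizer G φ) y = {v | S.Sp x v φ} := by
  ext v
  refine ⟨?_, fun hv => h.uniq hv⟩
  rintro ⟨g, hg, rfl⟩
  simpa [mem_stabilizer_iff.1 hg.1, mem_stabilizer_iff.1 hg.2] using h.smul g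

theorem Sp.orb_eq' {x y : V} {φ : V'} (h : S.Sp x y φ) :
    orb (stabilizer G x ⊓ stabilizer G y) φ = {ψ | S.Sp x y ψ} := by
  ext ψ
  refine ⟨?_, fun hv => ?_⟩
  · rintro ⟨g, hg, rfl⟩
    simpa [mem_stabilizer_iff.1 hg.1, mem_stabilizer_iff.1 hg.2] using h.smul g
  · obtain ⟨g, a1, a2, a3⟩ := h.conj hv
    exact ⟨g, ⟨a1, a2⟩, a3⟩

variable (S) in
/-- the union of the special lines through `x` in `φ` -/
def W1 (x : V) (φ : V') : AddSubgroup V where
  carrier := {v | v = 0 ∨ v = x ∨ S.Sp x v φ}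
  zero_mem' := Or.inl rfl
  neg_mem' := fun {a} ha => by rwa [ZModModule.neg_eq_self]
  add_mem' := by
    intro a c ha hc
    by_cases h : ∃ y, S.Sp x y φ
    · obtain ⟨y, h⟩ := h
      obtain ⟨W, a1, a2, -⟩ := h.struct
      rw [h.orb_eq] at a2
      have key : ∀ v, (v = 0 ∨ v = x ∨ S.Sp x v φ) ↔ v ∈ W := by
        intro v
        have := Set.ext_iff.1 a2 v
        simp only [Set.mem_setOf_eq, Set.mem_diff, SetLike.mem_coe, mem_ln] at this
        constructor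
        · rintro (rfl | rfl | h')
          exacts [zero_mem _, a1, (this.1 h').1]
        · intro hv; tauto
      exact (key _).2 (W.add_mem ((key _).1 ha) ((key _).1 hc))
    · push Not at h
      have : a + c ∈ ln x := AddSubgroup.add_mem _
        (by rcases ha with e | e | e; exacts [Or.inl e, Or.inr e, absurd e (h _)])
        (by rcases hc with e | e | e; exacts [Or.inl e, Or.inr e, absurd e (h _)])
      rcases this with e | e
      exacts [Or.inl e, Or.inr (Or.inl e)]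

theorem mem_W1 {x v : V} {φ : V'} : v ∈ S.W1 x φ ↔ v = 0 ∨ v = x ∨ S.Sp x v φ := Iff.rfl

theorem Sp.mem {x v : V} {φ : V'} (h : S.Sp x v φ) : v ∈ S.W1 x φ := Or.inr (Or.inr h)

theorem self_mem_W1 (x : V) (φ : V') : x ∈ S.W1 x φ := Or.inr (Or.inl rfl)

theorem ln_le_W1 (x : V) (φ : V') : ln x ≤ S.W1 x φ := by
  rintro v (e | e); exacts [Or.inl e, Or.inr (Or.inl e)]

theorem W1_diff (x : V) (φ : V') : (S.W1 x φ : Set V) \ ln x = {v | S.Sp x v φ} := by
  ext v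
  simp only [Set.mem_setOf_eq, Set.mem_diff, SetLike.mem_coe, mem_ln, mem_W1]
  exact ⟨fun h => by tauto, fun h => ⟨Or.inr (Or.inr h), by rintro (e | e); exacts [h.hy e, h.yx e]⟩⟩

theorem smul_mem_W1 {x v : V} {φ : V'} (g : G) (h : v ∈ S.W1 x φ) :
    g • v ∈ S.W1 (g • x) (g • φ) := by
  rcases h with rfl | rfl | h
  · exact Or.inl (smul_zero g)
  · exact Or.inr (Or.inl rfl)
  · exact (h.smul g).mem

theorem W1_smul (x : V) (φ : V') (g : G) : S.W1 (g • x) (g • φ) = g • S.W1 x φ := by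
  ext v
  rw [mem_smul_iff]
  exact ⟨fun h => by simpa using smul_mem_W1 g⁻¹ h, fun h => by simpa using smul_mem_W1 g h⟩

theorem inv_W1 (x : V) (φ : V') : Inv (stabilizer G x ⊓ stabilizer G φ) (S.W1 x φ : Set V) := by
  intro g hg v hv
  simpa [mem_stabilizer_iff.1 hg.1, mem_stabilizer_iff.1 hg.2] using smul_mem_W1 g hv

theorem W1_le {x : V} {φ : V'} (e : S.b x φ = 0) : S.W1 x φ ≤ S.flip.perp (ln φ) := by
  rintro v (rfl | rfl | h)
  · exact zero_mem _
  · exact S.flip.mem_perp_ln.2 e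
  · exact S.flip.mem_perp_ln.2 h.yφ

theorem tr_W1 {x : V} {φ : V'} (hx : x ≠ 0) (hφ : φ ≠ 0) (e : S.b x φ = 0) :
    Tr (stabilizer G x ⊓ stabilizer G φ) ((S.perp (ln x) : Set V') \ S.perp (S.W1 x φ)) := by
  obtain ⟨y, h⟩ := S.exists_sp hx hφ e
  obtain ⟨W, a1, a2, a3⟩ := h.struct
  rw [h.orb_eq, ← W1_diff] at a2
  have : S.W1 x φ = W := by
    ext v
    have := Set.ext_iff.1 a2 v
    simp only [Set.mem_diff, SetLike.mem_coe] at this
    by_cases hl : v ∈ ln x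
    · exact ⟨fun _ => by rcases hl with rfl | rfl; exacts [zero_mem _, a1], fun _ => ln_le_W1 _ _ hl⟩
    · simpa [hl] using this
  rwa [this]

theorem Sp.card_F {x y : V} {φ : V'} (h : S.Sp x y φ) :
    Nat.card ↥(stabilizer G x ⊓ stabilizer G φ) =
      (orb (stabilizer G x ⊓ stabilizer G y) φ).ncard *
        Nat.card ↥(stabilizer G x ⊓ stabilizer G (pl x y) ⊓ stabilizer G φ) ∧
    Nat.card ↥(stabilizer G x ⊓ stabilizer G (pl x y)) =
      (orb (stabilizer G x ⊓ stabilizer G y) φ).ncard *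
        Nat.card ↥(stabilizer G x ⊓ stabilizer G (pl x y) ⊓ stabilizer G φ) := by
  obtain ⟨g, hg, e⟩ := S.cone1 h.hx h.hφ h.xφ h.hy h.yx
  have hg' : g ∈ stabilizer G (pl x y) := smul_pl_eq
    (by rw [mem_stabilizer_iff.1 hg.1]; exact left_mem_pl _ _)
    (by rw [e]; exact mem_pl.2 (by simp))
  have hne : y ≠ y + x := by simpa using h.hx
  have h1 := ncard_orb_mul (stabilizer G x ⊓ stabilizer G (pl x y) ⊓ stabilizer G φ) y
  rw [orb_pl h.hy h.yx inf_le_left ⟨g, ⟨⟨hg.1, hg'⟩, hg.2⟩, e⟩, Set.ncard_pair hne] at h1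
  have h2 := ncard_orb_mul (stabilizer G x ⊓ stabilizer G (pl x y)) y
  rw [orb_pl h.hy h.yx le_rfl ⟨g, ⟨hg.1, hg'⟩, e⟩, Set.ncard_pair hne] at h2
  have e2 : stabilizer G x ⊓ stabilizer G (pl x y) ⊓ stabilizer G y =
      stabilizer G x ⊓ stabilizer G y := by
    refine le_antisymm (inf_le_inf_right _ inf_le_left) fun k hk => ⟨⟨hk.1, smul_pl_eq ?_ ?_⟩, hk.2⟩
    · rw [mem_stabilizer_iff.1 hk.1]; exact left_mem_pl _ _
    · rw [mem_stabilizer_iff.1 hk.2]; exact right_mem_pl _ _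
  rw [inf_right_comm, e2] at h1
  rw [e2] at h2
  have h3 := ncard_orb_mul (stabilizer G x ⊓ stabilizer G φ) y
  have h4 := ncard_orb_mul (stabilizer G x ⊓ stabilizer G y) φ
  rw [(S.tau h.hx h.hφ h.xφ h.hy h.yx).1, inf_right_comm] at h3
  constructor
  · rw [← h3, ← h1]; ring
  · rw [← h2, ← h4, ← h1]; ring

theorem Sp.tr_Bo {x y : V} {φ : V'} (h : S.Sp x y φ) :
    Tr (stabilizer G x ⊓ stabilizer G (pl x y) ⊓ stabilizer G φ)
      (((⊤ : AddSubgroup V) : Set V) \ S.flip.perp (ln φ)) := by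
  have := S.flip.tr_off_flag h.hφ h.hx h.xφ
  rw [inf_comm] at this
  exact this.of_odd (S.flip.inv_off fun _ h => h.2) (inf_le_inf_right _ inf_le_left) h.card_F.1
    h.odd (S.flip.ncard_off h.hφ)

theorem Sp.struct2 {x y : V} {φ : V'} (h : S.Sp x y φ) : ∃ W : AddSubgroup V',
    {ψ | S.Sp x y ψ} = (W : Set V') \ (⊥ : AddSubgroup V') := by
  set P := stabilizer G x ⊓ stabilizer G (pl x y) with hP
  set W := AddSubgroup.closure (orb P φ) with hW
  have hle : stabilizer G x ⊓ stabilizer G y ≤ P := fun k hk => ⟨hk.1, smul_pl_eq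
    (by rw [mem_stabilizer_iff.1 hk.1]; exact left_mem_pl _ _)
    (by rw [mem_stabilizer_iff.1 hk.2]; exact right_mem_pl _ _)⟩
  have hτ : (orb P φ).ncard = (orb (stabilizer G x ⊓ stabilizer G y) φ).ncard := by
    have h1 := ncard_orb_mul P φ
    rw [h.card_F.2] at h1
    exact Nat.eq_of_mul_eq_mul_right Nat.card_pos h1
  have he : orb (stabilizer G x ⊓ stabilizer G y) φ = orb P φ :=
    Set.eq_of_subset_of_ncard_le (orb_mono hle φ) hτ.le (orb_finite _ _)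
  refine ⟨W, ?_⟩
  rw [← h.orb_eq', he]
  have hsub : orb P φ ⊆ (W : Set V') \ (⊥ : AddSubgroup V') := by
    intro ψ hψ
    refine ⟨AddSubgroup.subset_closure hψ, ?_⟩
    obtain ⟨g, -, rfl⟩ := hψ
    exact smul_ne0 h.hφ
  refine Set.eq_of_subset_of_ncard_le hsub ?_ (Set.toFinite _)
  have hT : Tr P (((⊤ : AddSubgroup V) : Set V) \ S.flip.perp W) := by
    have := S.flip.overlap (inv_top P) (y := φ) (by
      convert h.tr_Bo using 1
      ext v; rw [S.flip.mem_off]; simp)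
    convert this using 1
    ext ψ
    simp only [hW, Set.mem_diff, SetLike.mem_coe, S.flip.perp_closure,
      Set.mem_setOf_eq, ← z2_ne, AddSubgroup.mem_top, true_and, not_forall]
    tauto
  obtain ⟨z, hz⟩ : (((⊤ : AddSubgroup V) : Set V) \ S.flip.perp (ln φ)).Nonempty := by
    rw [← Set.ncard_pos, S.flip.ncard_off h.hφ]; positivity
  have hz' : z ∈ ((⊤ : AddSubgroup V) : Set V) \ S.flip.perp W :=
    ⟨trivial, fun hc => hz.2 (S.flip.mem_perp_ln.2 (hc φ (hsub (mem_orb_self _ _)).1))⟩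
  have d := orb_dc P φ z
  rw [h.tr_Bo.orb_eq (S.flip.inv_off fun _ h => h.2) hz, S.flip.ncard_off h.hφ,
    hT.orb_eq ((inv_top P).diff (S.flip.inv_perp (inv_closure (inv_orb P φ)))) hz',
    ncard_diff le_top, AddSubgroup.card_top, S.cV] at d
  have c1 := S.flip.card_perp_mul W
  have := arith (τ := (orb P φ).ncard) (γ := Nat.card W) (κ := 2 * (orb (P ⊓ stabilizer G z) φ).ncard)
    (Nat.card_pos (α := S.flip.perp W)) (ncard_orb_pos _ _) (by
      rw [mul_comm _ (Nat.card W), c1, mul_left_comm, flip_s, ← d, pow_succ _ (S.s + 2), flip_s]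
      ring)
  rw [ncard_diff bot_le, AddSubgroup.card_bot]
  exact this

variable (S) in
/-- the hyperplanes in which the line through `x, y` is special -/
def Lam (x y : V) : AddSubgroup V' where
  carrier := {ψ | ψ = 0 ∨ S.Sp x y ψ}
  zero_mem' := Or.inl rfl
  neg_mem' := fun {a} ha => by rwa [ZModModule.neg_eq_self]
  add_mem' := by
    rintro a c (rfl | ha) hc
    · simpa using hc
    rcases hc with rfl | hc
    · exact Or.inr (by simpa using ha)
    obtain ⟨W, e⟩ := ha.struct2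
    have h1 := (Set.ext_iff.1 e a).1 ha
    have h2 := (Set.ext_iff.1 e c).1 hc
    by_cases h0 : a + c = 0
    · exact Or.inl h0
    · exact Or.inr ((Set.ext_iff.1 e (a + c)).2 ⟨W.add_mem h1.1 h2.1, h0⟩)

theorem mem_Lam {x y : V} {ψ : V'} : ψ ∈ S.Lam x y ↔ ψ = 0 ∨ S.Sp x y ψ := Iff.rfl

theorem Lam_diff (x y : V) : (S.Lam x y : Set V') \ (⊥ : AddSubgroup V') = {ψ | S.Sp x y ψ} := by
  ext v
  simp only [Set.mem_setOf_eq, Set.mem_diff, SetLike.mem_coe, mem_Lam, AddSubgroup.mem_bot]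
  exact ⟨fun h => by tauto, fun h => ⟨Or.inr h, h.hφ⟩⟩

theorem Lam_smul (x y : V) (g : G) : S.Lam (g • x) (g • y) = g • S.Lam x y := by
  ext v
  rw [mem_smul_iff]
  constructor
  · rintro (rfl | h)
    · simp
    · exact Or.inr (by simpa using h.smul g⁻¹)
  · rintro (h | h)
    · left; simpa using congrArg (fun v => g • v) h
    · exact Or.inr (by simpa using h.smul g)

variable (S) in
theorem exists_flag : ∃ (x : V) (φ : V'), x ≠ 0 ∧ φ ≠ 0 ∧ S.b x φ = 0 := by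
  obtain ⟨x, hx, -⟩ := exists_third S.four_le 0 0 0
  obtain ⟨φ, hφ⟩ : ((S.perp (ln x) : Set V') \ (⊥ : AddSubgroup V')).Nonempty := by
    rw [← Set.ncard_pos, ncard_diff bot_le, S.card_perp_ln hx, AddSubgroup.card_bot]
    exact (odd_aux (S.s + 1)).pos
  exact ⟨x, φ, hx, hφ.2, S.mem_perp_ln.1 hφ.1⟩

variable (S) in
theorem exists_sp' {x y : V} (hx : x ≠ 0) (hy : y ≠ 0) (hyx : y ≠ x) : ∃ φ, S.Sp x y φ := by
  obtain ⟨x₀, φ, h1, h2, h3⟩ := S.exists_flag
  obtain ⟨y₀, h⟩ := S.exists_sp h1 h2 h3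
  obtain ⟨g, a1, a2⟩ := S.t x₀ y₀ x y h.hx h.hy h.yx hx hy hyx
  exact ⟨g • φ, by simpa [a1, a2] using h.smul g⟩

variable (S) in
/-- the parameter -/
structure HasG (γ : ℕ) : Prop where
  cW : ∀ {x φ}, x ≠ 0 → φ ≠ 0 → S.b x φ = 0 → Nat.card (S.W1 x φ) = 2 * γ
  cL : ∀ {x y}, x ≠ 0 → y ≠ 0 → y ≠ x → Nat.card (S.Lam x y) = γ
  pow : ∃ g, γ = 2 ^ (g + 1)

theorem Sp.ncard_orb' {x y : V} {φ : V'} (h : S.Sp x y φ) :
    (orb (stabilizer G x ⊓ stabilizer G y) φ).ncard = Nat.card (S.Lam x y) - 1 := by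
  rw [h.orb_eq', ← Lam_diff, ncard_diff bot_le, AddSubgroup.card_bot]

variable (S) in
theorem exists_hasG : ∃ γ, S.HasG γ := by
  obtain ⟨x₀, φ₀, h1, h2, h3⟩ := S.exists_flag
  obtain ⟨y₀, h⟩ := S.exists_sp h1 h2 h3
  have t := (S.tau h.hx h.hφ h.xφ h.hy h.yx).1
  have hp := ncard_orb_pos (stabilizer G x₀ ⊓ stabilizer G y₀) φ₀
  rw [h.ncard_orb'] at t hp
  rw [h.orb_eq, ← W1_diff, ncard_diff (ln_le_W1 _ _), card_ln h1] at t
  refine ⟨Nat.card (S.Lam x₀ y₀), fun {x φ} a1 a2 a3 => ?_, fun {x y} a1 a2 a3 => ?_, ?_⟩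
  · obtain ⟨g, rfl, rfl⟩ := S.flag h1 a1 h2 a2 (h3.trans a3.symm)
    rw [W1_smul, card_smul]; omega
  · obtain ⟨g, rfl, rfl⟩ := S.t x₀ y₀ x y h.hx h.hy h.yx a1 a2 a3
    rw [Lam_smul, card_smul]
  · have := AddSubgroup.card_addSubgroup_dvd_card (S.Lam x₀ y₀)
    rw [S.cV'] at this
    obtain ⟨k, -, hk⟩ := (Nat.dvd_prime_pow Nat.prime_two).1 this
    rcases k with _ | k
    · omega
    · exact ⟨k, hk⟩

end St

end Cfsg.Agent.Proj.CK
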