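import Cfsg.Agent.Proj.CKGam

/-!
# Cameron–Kantor for `q = 2`: reduction to the parameter `4`
-/

set_option autoImplicit false

namespace Cfsg.Agent.Proj.CK

open MulAction Pointwise

theorem dc_eq {α β : Type*} [Finite α] [Finite β] (s : Set α) (t : Set β) (r : α → β → Prop)
    (k : ℕ) (hst : s.ncard = t.ncard) (h1 : ∀ b ∈ t, {a | a ∈ s ∧ r a b}.ncard = k)
    (h2 : ∀ a ∈ s, {b | b ∈ t ∧ r a b}.ncard ≤ k) : ∀ a ∈ s, {b | b ∈ t ∧ r a b}.ncard = k := by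
  classical
  haveI := Fintype.ofFinite α
  haveI := Fintype.ofFinite β
  have h := Finset.sum_card_bipartiteAbove_eq_sum_card_bipartiteBelow (s := s.toFinset)
    (t := t.toFinset) r
  have e1 : ∀ a, (t.toFinset.bipartiteAbove r a).card = {b | b ∈ t ∧ r a b}.ncard := by
    intro a; rw [← Set.ncard_coe_finset]; congr 1; ext b; simp
  have e2 : ∀ b, (s.toFinset.bipartiteBelow r b).card = {a | a ∈ s ∧ r a b}.ncard := by
    intro a; rw [← Set.ncard_coe_finset]; congr 1; ext b; simp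
  simp only [e1, e2] at h
  rw [Finset.sum_congr rfl (g := fun _ => k) (s₂ := t.toFinset) (fun b hb => h1 b (by simpa using hb)),
    Finset.sum_const, ← Set.ncard_eq_toFinset_card', ← hst, Set.ncard_eq_toFinset_card',
    ← Finset.sum_const] at h
  intro a ha
  exact (Finset.sum_eq_sum_iff_of_le (fun a ha => h2 a (by simpa using ha))).1 h a (by simpa using ha)

theorem span2 {V : Type*} [AddCommGroup V] [Finite V] {T X Y : AddSubgroup V} {γ : ℕ}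
    (hT : Nat.card T = 2 * γ) (hX : Nat.card ↥(T ⊓ X) = γ) (hY : Nat.card ↥(T ⊓ Y) = γ)
    (hne : T ⊓ X ≠ T ⊓ Y) : T ≤ X ⊔ Y := by
  have h1 : T ⊓ X ≠ (T ⊓ X) ⊔ (T ⊓ Y) := fun e =>
    hne (AddSubgroup.eq_of_le_of_card_ge (e ▸ le_sup_right : T ⊓ Y ≤ T ⊓ X) (by omega)).symm
  have h2 := two_mul_card_le_of_lt le_sup_left h1
  rw [← AddSubgroup.eq_of_le_of_card_ge (sup_le inf_le_left inf_le_left : (T ⊓ X) ⊔ (T ⊓ Y) ≤ T)
    (by omega)]
  exact sup_le_sup inf_le_right inf_le_right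

theorem exists_not_mem_of_card_lt {V : Type*} [AddCommGroup V] [Finite V] {T X : AddSubgroup V}
    (h : Nat.card X < Nat.card T) : ∃ v ∈ T, v ∉ X := by
  by_contra! hc
  exact absurd (AddSubgroup.card_le_of_le hc) (by omega)

variable {G V V' : Type*} [Group G] [AddCommGroup V] [AddCommGroup V'] [DistribMulAction G V]
  [DistribMulAction G V'] [Finite V] [Finite V'] [Module (ZMod 2) V] [Module (ZMod 2) V']

namespace St

omit [Finite V] [Finite V'] [Module (ZMod 2) V] [Module (ZMod 2) V'] in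
theorem flip_flip (S : St G V V') : S.flip.flip = S := rfl

variable {S : St G V V'} [Finite G]

variable (S) in
/-- the annihilator of the dual `W1` -/
def W (x : V) (φ : V') : AddSubgroup V := S.flip.perp (S.flip.W1 φ x)

theorem smul_mem_W {x v : V} {φ : V'} (g : G) (h : v ∈ S.W x φ) : g • v ∈ S.W (g • x) (g • φ) := by
  intro ψ hψ
  rw [flip_b, S.inv']
  exact h _ (by simpa using smul_mem_W1 (S := S.flip) g⁻¹ hψ)

theorem inv_W (x : V) (φ : V') : Inv (stabilizer G x ⊓ stabilizer G φ) (S.W x φ : Set V) := by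
  intro g hg v hv
  simpa [mem_stabilizer_iff.1 hg.1, mem_stabilizer_iff.1 hg.2] using smul_mem_W g hv

theorem W_symm {x z : V} {φ : V'} (hx : x ≠ 0) (hz : z ≠ 0) (hφ : φ ≠ 0) (e : S.b x φ = 0)
    (e' : S.b z φ = 0) (h : z ∈ S.W x φ) : x ∈ S.W z φ := by
  obtain ⟨g, h1, h2, h3⟩ := S.swap hx hz hφ e e'
  simpa [h1, h2, h3] using smul_mem_W g h

theorem W_le (x : V) (φ : V') : S.W x φ ≤ S.flip.perp (ln φ) := S.flip.perp_anti (ln_le_W1 _ _)

theorem tr_W {x : V} {φ : V'} (hx : x ≠ 0) (hφ : φ ≠ 0) (e : S.b x φ = 0) :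
    Tr (stabilizer G x ⊓ stabilizer G φ) ((S.flip.perp (ln φ) : Set V) \ S.W x φ) := by
  rw [inf_comm]; exact tr_W1 (S := S.flip) hφ hx e

theorem inv_HW (x : V) (φ : V') :
    Inv (stabilizer G x ⊓ stabilizer G φ) ((S.flip.perp (ln φ) : Set V) \ S.W x φ) :=
  (S.flip.inv_perp (A := stabilizer G x ⊓ stabilizer G φ) (inv_ln fun _ h => h.2)).diff (inv_W x φ)

theorem perp_W (x : V) (φ : V') : S.perp (S.W x φ) = S.flip.W1 φ x := S.flip.perp_perp _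

variable {γ γ' : ℕ}

theorem card_W (h' : S.flip.HasG γ') {x : V} {φ : V'} (hx : x ≠ 0) (hφ : φ ≠ 0) (e : S.b x φ = 0) :
    Nat.card (S.W x φ) * γ' = 2 ^ (S.s + 2) := by
  have := S.flip.card_perp_mul (S.flip.W1 φ x)
  rw [h'.cW hφ hx e, flip_s, pow_succ] at this
  unfold W
  linarith

theorem Sp.mem_W (hγ : S.HasG γ) (n4 : 4 * γ ≠ 2 ^ (S.s + 3)) {x y : V} {φ : V'} (h : S.Sp x y φ) :
    y ∈ S.W x φ := by
  by_contra hy
  have hy' : y ∈ (S.flip.perp (ln φ) : Set V) \ S.W x φ := ⟨S.flip.mem_perp_ln.2 h.yφ, hy⟩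
  have key : ∀ z ∈ S.flip.perp (ln φ), z ∉ S.W x φ → z ∈ S.W1 x φ := by
    intro z h1 h2
    obtain ⟨g, hg, rfl⟩ := tr_W h.hx h.hφ h.xφ y hy' z ⟨h1, h2⟩
    exact inv_W1 x φ g hg y h.mem
  obtain ⟨z, h1, h2⟩ : ∃ z ∈ S.flip.perp (ln φ), z ∉ S.W1 x φ := by
    by_contra! hc
    have := le_antisymm (W1_le h.xφ) hc
    have h1 := hγ.cW h.hx h.hφ h.xφ
    rw [this, S.flip.card_perp_ln h.hφ, flip_s] at h1
    rw [pow_succ] at n4
    omega
  have h3 : z ∈ S.W x φ := by by_contra hc; exact h2 (key z h1 hc)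
  have := key (z + y) (AddSubgroup.add_mem _ h1 hy'.1)
    (fun hc => hy ((AddSubgroup.add_mem_cancel_left _ h3).1 hc))
  exact h2 ((AddSubgroup.add_mem_cancel_right _ h.mem).1 this)

theorem Sp.ncard_orb (hγ : S.HasG γ) {x y : V} {φ : V'} (h : S.Sp x y φ) :
    (orb (stabilizer G x ⊓ stabilizer G φ) y).ncard = 2 * (γ - 1) := by
  rw [h.orb_eq, ← W1_diff, ncard_diff (ln_le_W1 _ _), card_ln h.hx, hγ.cW h.hx h.hφ h.xφ]
  omega

theorem Sp.half (hγ : S.HasG γ) (hγ' : S.flip.HasG γ') {x y : V} {φ : V'} (h : S.Sp x y φ)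
    (hne : S.W x φ ≠ S.W y φ) :
    Nat.card (S.W x φ) = 2 * Nat.card ↥(S.W x φ ⊓ S.W y φ) ∧
    ∀ z ∈ (S.W x φ : Set V) \ S.W y φ,
      orb (stabilizer G y ⊓ stabilizer G φ ⊓ stabilizer G x) z = (S.W x φ : Set V) \ S.W y φ := by
  set A := stabilizer G y ⊓ stabilizer G φ ⊓ stabilizer G x with hA
  have c1 := card_W hγ' h.hx h.hφ h.xφ
  have c2 := card_W hγ' h.hy h.hφ h.yφ
  obtain ⟨g, hg⟩ := hγ.pow
  obtain ⟨g', hg'⟩ := hγ'.pow
  have c3 : Nat.card (S.W y φ) = Nat.card (S.W x φ) :=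
    Nat.eq_of_mul_eq_mul_right (show 0 < γ' by rw [hg']; positivity) (c2.trans c1.symm)
  set w := Nat.card (S.W x φ) with hw
  have hi : Inv A ((S.W x φ : Set V) \ S.W y φ) :=
    ((inv_W x φ).mono (A := A) fun k hk => ⟨hk.2, hk.1.2⟩).diff ((inv_W y φ).mono inf_le_left)
  have hd := ncard_diff' (S.W x φ) (S.W y φ)
  have hp : 0 < Nat.card ↥(S.W x φ ⊓ S.W y φ) := Nat.card_pos
  have key : ∀ z ∈ (S.W x φ : Set V) \ S.W y φ, 2 * (orb A z).ncard = w := by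
    intro z hz
    have d := orb_dc (stabilizer G y ⊓ stabilizer G φ) z x
    rw [(tr_W h.hy h.hφ h.yφ).orb_eq (inv_HW y φ) ⟨W_le x φ hz.1, hz.2⟩, ncard_diff (W_le y φ),
      S.flip.card_perp_ln h.hφ, flip_s, ← c1, c3, h.symm.ncard_orb hγ, ← hA] at d
    obtain ⟨i, -, hi'⟩ := (Nat.dvd_prime_pow Nat.prime_two).1 (Dvd.intro _ c1)
    have h1 : w ∣ (γ - 1) * (2 * (orb A z).ncard) := by
      rw [show (γ - 1) * (2 * (orb A z).ncard) = 2 * (γ - 1) * (orb A z).ncard by ring, ← d]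
      exact Dvd.dvd.mul_right (Nat.dvd_sub (Dvd.intro _ rfl) dvd_rfl) _
    rw [hi', hg] at h1
    have h2 := (Nat.Coprime.pow_left i (Nat.coprime_two_left.2 (odd_aux g))).dvd_of_dvd_mul_left h1
    rw [← hi'] at h2
    obtain ⟨j, hj⟩ := h2
    have h3 := Set.ncard_le_ncard (hi.orb_subset hz)
    have h4 := ncard_orb_pos A z
    have h5 : j < 2 := by
      by_contra hc
      have : w * 2 ≤ w * j := Nat.mul_le_mul_left _ (by omega)
      omega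
    interval_cases j <;> omega
  obtain ⟨z, hz⟩ : ((S.W x φ : Set V) \ S.W y φ).Nonempty := by
    by_contra hc
    rw [Set.not_nonempty_iff_eq_empty, Set.diff_eq_empty] at hc
    exact hne (AddSubgroup.eq_of_le_of_card_ge hc c3.le)
  have k1 := key z hz
  obtain ⟨j, hj⟩ := dvd_ncard_of_forall_orb (A := A) (k := (orb A z).ncard) _ _ (Set.toFinite _) rfl
    hi fun z' hz' => by have := key z' hz'; rw [show (orb A z').ncard = (orb A z).ncard by omega]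
  have h3 := Set.ncard_le_ncard (hi.orb_subset hz)
  have h4 := ncard_orb_pos A z
  have h5 : j < 2 := by
    by_contra hc
    have : (orb A z).ncard * 2 ≤ (orb A z).ncard * j := Nat.mul_le_mul_left _ (by omega)
    omega
  have h6 : ((S.W x φ : Set V) \ S.W y φ).ncard = (orb A z).ncard := by
    interval_cases j <;> omega
  refine ⟨by omega, fun z' hz' => Set.eq_of_subset_of_ncard_le (hi.orb_subset hz') ?_⟩
  have := key z' hz'
  omega

theorem Sp.alpha (hγ : S.HasG γ) (hγ' : S.flip.HasG γ') (h4 : 4 ∣ γ) (h4' : 4 ∣ γ') {x y : V}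
    {φ : V'} (h : S.Sp x y φ) (hne : S.W x φ ≠ S.W y φ) : γ = γ' := by
  obtain ⟨a1, a2⟩ := h.symm.half hγ hγ' hne.symm
  have c1 := card_W hγ' h.hx h.hφ h.xφ
  have c2 := card_W hγ' h.hy h.hφ h.yφ
  obtain ⟨g, hg⟩ := hγ.pow
  obtain ⟨g', hg'⟩ := hγ'.pow
  have hγp : 0 < γ := by rw [hg]; positivity
  have hγp' : 0 < γ' := by rw [hg']; positivity
  have c3 : Nat.card (S.W x φ) = Nat.card (S.W y φ) :=
    Nat.eq_of_mul_eq_mul_right hγp' (c1.trans c2.symm)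
  have hd := ncard_diff' (S.W y φ) (S.W x φ)
  have hp : 0 < Nat.card ↥(S.W y φ ⊓ S.W x φ) := Nat.card_pos
  obtain ⟨z, hz⟩ : ((S.W y φ : Set V) \ S.W x φ).Nonempty := by
    rw [← Set.ncard_pos]; omega
  have hz0 : z ≠ 0 := by rintro rfl; exact hz.2 (zero_mem _)
  have hzφ : S.b z φ = 0 := S.flip.mem_perp_ln.1 (W_le y φ hz.1)
  set F := stabilizer G x ⊓ stabilizer G φ with hF
  have d := orb_dc F y z
  rw [(tr_W h.hx h.hφ h.xφ).orb_eq (inv_HW x φ) ⟨W_le y φ hz.1, hz.2⟩, ncard_diff (W_le x φ),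
    S.flip.card_perp_ln h.hφ, flip_s, ← c1, h.ncard_orb hγ, a2 z hz] at d
  have e : orb (F ⊓ stabilizer G z) y =
      ((S.W1 x φ ⊓ S.W z φ : AddSubgroup V) : Set V) \ (⊥ : AddSubgroup V) := by
    ext v
    constructor
    · rintro ⟨k, hk, rfl⟩
      refine ⟨⟨inv_W1 x φ k hk.1 y h.mem, inv_W z φ k ⟨hk.2, hk.1.2⟩ y ?_⟩, smul_ne0 h.hy⟩
      exact W_symm h.hy hz0 h.hφ h.yφ hzφ hz.1
    · rintro ⟨⟨v1, v2⟩, v3⟩
      rcases v1 with rfl | rfl | v1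
      · exact absurd rfl v3
      · exact absurd (W_symm hz0 h.hx h.hφ hzφ h.xφ v2) hz.2
      obtain ⟨k, hk, rfl⟩ := h.uniq v1
      have b1 : k⁻¹ • z ∈ (S.W y φ : Set V) \ S.W x φ := by
        constructor
        · have := smul_mem_W k⁻¹ (W_symm hz0 v1.hy h.hφ hzφ v1.yφ v2)
          rwa [inv_smul_smul, mem_stabilizer_iff.1 ((stabilizer G φ).inv_mem hk.2)] at this
        · intro hc
          exact hz.2 (by simpa using inv_W x φ k hk _ hc)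
      rw [← a2 z hz] at b1
      obtain ⟨a, ha, ea⟩ := b1
      refine ⟨k * a, ⟨F.mul_mem hk ha.1, mem_stabilizer_iff.2 ?_⟩,
        by rw [mul_smul, mem_stabilizer_iff.1 ha.2]⟩
      rw [mul_smul, ea, smul_inv_smul]
  rw [e, ncard_diff bot_le, AddSubgroup.card_bot] at d
  have := AddSubgroup.card_addSubgroup_dvd_card (S.W1 x φ ⊓ S.W z φ)
  rw [S.cV] at this
  obtain ⟨k, -, hk⟩ := (Nat.dvd_prime_pow Nat.prime_two).1 this
  rw [hk, c3, a1, show ((S.W y φ : Set V) \ S.W x φ).ncard = Nat.card ↥(S.W y φ ⊓ S.W x φ) by omega]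
    at d
  set i := Nat.card ↥(S.W y φ ⊓ S.W x φ)
  have d' : γ - 1 = (γ' - 1) * (2 ^ k - 1) := by
    apply Nat.eq_of_mul_eq_mul_left (show 0 < 2 * i by omega)
    rw [show 2 * i * γ' - 2 * i = 2 * i * (γ' - 1) by rw [Nat.mul_sub, mul_one]] at d
    linarith
  obtain ⟨a, rfl⟩ := h4
  obtain ⟨c, rfl⟩ := h4'
  rcases k with _ | _ | k
  · simp at d'; omega
  · simp at d'; omega
  · exfalso
    obtain ⟨m, hm⟩ : ∃ m, 2 ^ (k + 1 + 1) - 1 = 4 * m + 3 := by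
      have : 0 < 2 ^ k := by positivity
      exact ⟨2 ^ k - 1, by rw [pow_succ, pow_succ]; omega⟩
    obtain ⟨c', rfl⟩ : ∃ c', c = c' + 1 := ⟨c - 1, by omega⟩
    rw [hm, show 4 * (c' + 1) - 1 = 4 * c' + 3 by omega,
      show (4 * c' + 3) * (4 * m + 3) = 4 * (4 * c' * m + 3 * c' + 3 * m + 2) + 1 by ring] at d'
    omega

theorem Sp.W_ne (hγ : S.HasG γ) (hγ' : S.flip.HasG γ') (hlt : γ' < 2 * γ) {x y : V} {φ : V'}
    (h : S.Sp x y φ) : S.W x φ ≠ S.W y φ := by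
  intro e
  have e' : S.flip.W1 φ x = S.flip.W1 φ y := by rw [← perp_W, e, perp_W]
  obtain ⟨ψ, hψ⟩ := S.flip.exists_sp h.hφ h.hx h.xφ
  have : S.W1 x φ ≤ S.flip.Lam φ ψ := by
    rintro v (rfl | rfl | hv)
    · exact zero_mem _
    · exact Or.inr hψ
    · obtain ⟨k, hk, rfl⟩ := h.uniq hv
      have h1 := W1_smul (S := S.flip) φ y k
      rw [← e', ← W1_smul, mem_stabilizer_iff.1 hk.1, mem_stabilizer_iff.1 hk.2] at h1
      have := hψ.mem
      rw [← h1] at this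
      rcases this with e | e | e
      exacts [absurd e hψ.hy, absurd e hψ.yx, Or.inr e]
  have := AddSubgroup.card_le_of_le this
  rw [hγ.cW h.hx h.hφ h.xφ, hγ'.cL hψ.hx hψ.hy hψ.yx] at this
  omega

variable (S) in
/-- the symmetric situation -/
structure Hyp (γ : ℕ) : Prop where
  hγ : S.HasG γ
  hγ' : S.flip.HasG γ
  n4 : 4 * γ ≠ 2 ^ (S.s + 3)
  h4 : 4 ∣ γ

theorem Hyp.flip (H : S.Hyp γ) : S.flip.Hyp γ := ⟨H.hγ', H.hγ, H.n4, H.h4⟩

theorem hyp_of (hγ : S.HasG γ) (hγ' : S.flip.HasG γ') (h4 : 4 ∣ γ) (h4' : 4 ∣ γ')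
    (n4 : 4 * γ ≠ 2 ^ (S.s + 3)) : S.Hyp γ := by
  obtain ⟨x, φ, h1, h2, h3⟩ := S.exists_flag
  obtain ⟨y, h⟩ := S.exists_sp h1 h2 h3
  obtain ⟨ψ, h'⟩ := S.flip.exists_sp h2 h1 h3
  obtain ⟨g, hg⟩ := hγ.pow
  have hγp : 0 < γ := by rw [hg]; positivity
  have : γ = γ' := by
    by_cases hlt : γ' < 2 * γ
    · exact h.alpha hγ hγ' h4 h4' (h.W_ne hγ hγ' hlt)
    · exact (h'.alpha hγ' hγ h4' h4 (h'.W_ne hγ' hγ (by omega))).symm
  subst this
  exact ⟨hγ, hγ', n4, h4⟩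

namespace Hyp

variable (H : S.Hyp γ)
include H

theorem four_le : 4 ≤ γ := by
  obtain ⟨g, hg⟩ := H.hγ.pow
  exact Nat.le_of_dvd (by rw [hg]; positivity) H.h4

theorem ne {x y : V} {φ : V'} (h : S.Sp x y φ) : S.W x φ ≠ S.W y φ :=
  h.W_ne H.hγ H.hγ' (by have := H.four_le; omega)

theorem cap {x y : V} {φ : V'} (h : S.Sp x y φ) :
    Nat.card ↥(S.flip.W1 φ x ⊓ S.flip.W1 φ y) = γ := by
  have h1 := (h.half H.hγ H.hγ' (H.ne h)).1
  have h2 := S.flip.card_perp_mul (S.flip.W1 φ x ⊔ S.flip.W1 φ y)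
  rw [Pr.perp_sup] at h2
  have h3 := card_sup_mul_card_inf (S.flip.W1 φ x) (S.flip.W1 φ y)
  rw [H.hγ'.cW h.hφ h.hx h.xφ, H.hγ'.cW h.hφ h.hy h.yφ] at h3
  have h4 := card_W H.hγ' h.hx h.hφ h.xφ
  change _ * Nat.card ↥(S.W x φ ⊓ S.W y φ) = 2 ^ (S.s + 3) at h2
  have hp : 0 < Nat.card ↥(S.W x φ ⊓ S.W y φ) := Nat.card_pos
  have h5 : Nat.card ↥(S.flip.W1 φ x ⊔ S.flip.W1 φ y) = 4 * γ := by
    apply Nat.eq_of_mul_eq_mul_right hp
    rw [h2, pow_succ, ← h4, h1]; ring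
  have := H.four_le
  apply Nat.eq_of_mul_eq_mul_left (show 0 < 4 * γ by omega)
  rw [← h5, h3, h5]; ring

theorem lj {x y : V} {φ ψ : V'} (h : S.Sp x y φ) (h' : S.Sp x y ψ) (hne : ψ ≠ φ) :
    S.flip.Sp φ ψ x := by
  have key := dc_eq {y | S.Sp x y φ} {ψ | S.flip.Sp φ ψ x} (fun y ψ => S.Sp x y ψ) (γ - 2)
    (by rw [← W1_diff, ← W1_diff, ncard_diff (ln_le_W1 _ _), ncard_diff (ln_le_W1 _ _),
      card_ln h.hx, card_ln h.hφ, H.hγ.cW h.hx h.hφ h.xφ, H.hγ'.cW h.hφ h.hx h.xφ])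
    (fun χ hχ => by
      have := H.flip.cap hχ
      rw [flip_flip] at this
      rw [← this, ← card_ln h.hx, ← ncard_diff (le_inf (ln_le_W1 _ _) (ln_le_W1 _ _))]
      congr 1
      ext v
      have e1 := Set.ext_iff.1 (W1_diff (S := S) x φ) v
      have e2 := Set.ext_iff.1 (W1_diff (S := S) x χ) v
      simp only [Set.mem_diff, SetLike.mem_coe, Set.mem_setOf_eq, AddSubgroup.mem_inf] at e1 e2 ⊢
      rw [← e1, ← e2]; tauto)
  have sub : ∀ y, S.Sp x y φ → {χ | χ ∈ {ψ | S.flip.Sp φ ψ x} ∧ S.Sp x y χ} ⊆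
      (S.Lam x y : Set V') \ ln φ := by
    rintro y hy χ ⟨a1, a2⟩
    exact ⟨Or.inr a2, by rintro (e | e); exacts [a1.hy e, a1.yx e]⟩
  have cd : ∀ y, S.Sp x y φ → ((S.Lam x y : Set V') \ ln φ).ncard = γ - 2 := by
    intro y hy
    rw [ncard_diff (by rintro v (rfl | rfl); exacts [zero_mem _, Or.inr hy]), card_ln h.hφ,
      H.hγ.cL hy.hx hy.hy hy.yx]
  have := key (fun y hy => (Set.ncard_le_ncard (sub y hy)).trans (cd y hy).le) y h
  have e := Set.eq_of_subset_of_ncard_le (sub y h) (by rw [cd y h, this])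
  have : ψ ∈ (S.Lam x y : Set V') \ ln φ := ⟨Or.inr h', by rintro (e | e); exacts [h'.hφ e, hne e]⟩
  rw [← e] at this
  exact this.1

theorem eq_four {x y : V} {φ : V'} (h : S.Sp x y φ) (hne : S.W1 x φ ≠ S.W1 y φ) : γ = 4 := by
  by_contra h4
  have h5 := H.four_le
  have c := H.cap h
  have cx := H.hγ.cW h.hx h.hφ h.xφ
  have cy := H.hγ.cW h.hy h.hφ h.yφ
  have sp : ∀ {ψ v}, ψ ∉ ln φ → ψ ∈ S.flip.W1 φ v → S.flip.Sp φ ψ v := by
    rintro ψ v h1 (e | e | e)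
    exacts [absurd (Or.inl e) h1, absurd (Or.inr e) h1, e]
  have key : ∀ ψ ∈ S.flip.W1 φ x ⊓ S.flip.W1 φ y, ψ ∉ ln φ →
      S.flip.Lam φ ψ = S.W1 x φ ⊓ S.W1 y φ := by
    intro ψ h1 h2
    have a1 := sp h2 h1.1
    have a2 := sp h2 h1.2
    have : ∀ {v}, S.flip.Sp φ ψ v → S.flip.Lam φ ψ ≤ S.W1 v φ := by
      rintro v hv u (rfl | hu)
      · exact zero_mem _
      · by_cases e : u = v
        · exact Or.inr (Or.inl e)
        · exact (H.flip.lj hv hu e).mem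
    refine AddSubgroup.eq_of_le_of_card_ge (le_inf (this a1) (this a2)) ?_
    have := two_mul_card_le_of_lt (inf_le_left : S.W1 x φ ⊓ S.W1 y φ ≤ _) fun e =>
      hne (AddSubgroup.eq_of_le_of_card_ge (inf_eq_left.1 e) (by omega))
    rw [H.hγ'.cL a1.hx a1.hy a1.yx]
    omega
  obtain ⟨ψ₁, a1, a2⟩ := exists_not_mem_of_card_lt (T := S.flip.W1 φ x ⊓ S.flip.W1 φ y)
    (X := ln φ) (by rw [card_ln h.hφ]; omega)
  have a3 := sp a2 a1.1
  obtain ⟨ψ₂, b1, b2⟩ := exists_not_mem_of_card_lt (T := S.flip.W1 φ x ⊓ S.flip.W1 φ y)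
    (X := pl φ ψ₁) (by rw [card_pl h.hφ a3.hy a3.yx]; omega)
  have b3 : ψ₂ ∉ ln φ := fun hc => b2 ((le_sup_left : ln φ ≤ _) hc)
  obtain ⟨z, z1, z2⟩ := S.flip.exists_sep b2
  have z3 := S.flip.mem_perp_pl.1 z1
  have z4 : z ∉ S.W x φ := fun hc => by
    have := hc ψ₂ b1.1
    rw [z2] at this; exact one_ne_zero this
  obtain ⟨z₀, c1, c2⟩ : ∃ z₀ ∈ S.W y φ, z₀ ∉ S.W x φ := by
    by_contra! hc
    have e1 := card_W H.hγ' h.hx h.hφ h.xφ
    have e2 := card_W H.hγ' h.hy h.hφ h.yφ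
    exact H.ne h (AddSubgroup.eq_of_le_of_card_ge hc
      (Nat.eq_of_mul_eq_mul_right (by omega) (e1.trans e2.symm)).le).symm
  obtain ⟨g, hg, rfl⟩ := tr_W h.hx h.hφ h.xφ z₀ ⟨W_le y φ c1, c2⟩ z
    ⟨S.flip.mem_perp_ln.2 z3.1, z4⟩
  have d1 := h.smul g
  have d2 := smul_mem_W g c1
  rw [mem_stabilizer_iff.1 hg.2] at d1 d2
  rw [mem_stabilizer_iff.1 hg.1] at d1
  have e1 : S.W x φ ⊔ ln (g • z₀) = S.W x φ ⊔ S.W (g • y) φ := by
    refine AddSubgroup.eq_of_le_of_card_ge (sup_le_sup_left ?_ _) ?_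
    · rintro v (rfl | rfl); exacts [zero_mem _, d2]
    · have f1 := two_mul_card_le_of_lt (le_sup_left : S.W x φ ≤ S.W x φ ⊔ ln (g • z₀))
        fun e => z4 (e ▸ (le_sup_right : ln (g • z₀) ≤ _) (Or.inr rfl))
      have f2 := card_sup_mul_card_inf (S.W x φ) (S.W (g • y) φ)
      have f3 := (d1.half H.hγ H.hγ' (H.ne d1)).1
      have e1 := card_W H.hγ' h.hx h.hφ h.xφ
      have e2 := card_W H.hγ' d1.hy h.hφ d1.yφ
      have f4 := Nat.eq_of_mul_eq_mul_right (by omega) (e2.trans e1.symm)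
      have hp : 0 < Nat.card ↥(S.W x φ ⊓ S.W (g • y) φ) := Nat.card_pos
      have : Nat.card ↥(S.W x φ ⊔ S.W (g • y) φ) = 2 * Nat.card (S.W x φ) := by
        apply Nat.eq_of_mul_eq_mul_right hp
        rw [f2, f4]; nth_rewrite 2 [f3]; ring
      omega
  have e2 : ψ₁ ∈ S.perp (S.W x φ ⊔ ln (g • z₀)) := by
    rw [Pr.perp_sup, perp_W]
    exact ⟨a1.1, S.mem_perp_ln.2 z3.2⟩
  rw [e1, Pr.perp_sup, perp_W, perp_W] at e2
  have e3 : g • y ∈ S.flip.Lam φ ψ₁ := Or.inr (sp a2 e2.2)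
  rw [key ψ₁ a1 a2, ← key ψ₂ b1 b3] at e3
  rcases e3 with e3 | e3
  · exact d1.hy e3
  · have := d2 ψ₂ e3.mem
    rw [z2] at this; exact one_ne_zero this

end Hyp

theorem rb {M : Subgroup G} {x : V} {φ : V'} (hx : x ≠ 0) (hφ : φ ≠ 0)
    (hF : stabilizer G x ⊓ stabilizer G φ ≤ M) (hM : M ≤ stabilizer G φ) {B R : AddSubgroup V}
    (hBR : B ≤ R) (hRH : R ≤ S.flip.perp (ln φ)) (hxB : x ∈ B) (hB : Inv M (B : Set V))
    (hR : Inv M (R : Set V)) (ho : ∀ y ∈ B, y ≠ 0 → y ∈ orb M x)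
    (hc : Nat.card R = 2 * Nat.card B) (h4 : 4 ≤ Nat.card B) : False := by
  obtain ⟨z, z1, z2⟩ := exists_not_mem_of_card_lt (T := R) (X := B) (by omega)
  have z0 : z ≠ 0 := by rintro rfl; exact z2 (zero_mem _)
  have hH : ∀ v ∈ R, S.b v φ = 0 := fun v hv => S.flip.mem_perp_ln.1 (hRH hv)
  obtain ⟨h, h1, h2⟩ := S.flag hx z0 hφ hφ ((hH x (hBR hxB)).trans (hH z z1).symm)
  have a1 : B ≤ h • R := by
    intro y hy
    by_cases y0 : y = 0
    · rw [y0]; exact zero_mem _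
    obtain ⟨g, g1, g2, g3⟩ := S.swap y0 z0 hφ (hH y (hBR hy)) (hH z z1)
    obtain ⟨k, hk, rfl⟩ := ho y hy y0
    have : h⁻¹ * g * k ∈ M := hF ⟨mem_stabilizer_iff.2 <| by
      rw [mul_smul, mul_smul, g2, ← h1, inv_smul_smul], mem_stabilizer_iff.2 <| by
      rw [mul_smul, mul_smul, mem_stabilizer_iff.1 (hM hk), g1,
        inv_smul_eq_iff, h2]⟩
    have := hR _ this _ (hR _ (M.inv_mem hk) z z1)
    rw [mul_smul, smul_inv_smul, mul_smul, g3] at this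
    exact mem_smul_iff.2 this
  have a2 : h • B ≤ h • R := fun v hv => mem_smul_iff.2 (hBR (mem_smul_iff.1 hv))
  have a3 := card_sup_mul_card_inf B (h • B)
  have a4 := AddSubgroup.card_le_of_le (sup_le a1 a2)
  rw [card_smul, hc] at a4
  rw [card_smul] at a3
  obtain ⟨y, ⟨y1, y2⟩, y3⟩ := exists_not_mem_of_card_lt (T := B ⊓ h • B) (X := ⊥) (by
    rw [AddSubgroup.card_bot]
    by_contra hc
    have : Nat.card ↥(B ⊔ h • B) * Nat.card ↥(B ⊓ h • B) ≤ 2 * Nat.card B * 1 :=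
      Nat.mul_le_mul a4 (by omega)
    nlinarith)
  obtain ⟨k, hk, rfl⟩ := ho y y1 y3
  obtain ⟨k', hk', e⟩ := ho _ (mem_smul_iff.1 y2) (smul_ne0 y3)
  have : k⁻¹ * h * k' ∈ M := hF ⟨mem_stabilizer_iff.2 <| by
    rw [mul_smul, mul_smul, e, smul_inv_smul, inv_smul_smul], mem_stabilizer_iff.2 <| by
    rw [mul_smul, mul_smul, mem_stabilizer_iff.1 (hM hk'), h2,
      mem_stabilizer_iff.1 (hM (M.inv_mem hk))]⟩
  have hh : h ∈ M := by
    have := M.mul_mem (M.mul_mem hk this) (M.inv_mem hk')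
    simpa [mul_assoc] using this
  exact z2 (h1 ▸ hB h hh x hxB)

theorem Hyp.eq_four' (H : S.Hyp γ) : γ = 4 := by
  by_contra h4
  have c1 : ∀ {x y φ}, S.Sp x y φ → S.W1 x φ = S.W1 y φ := fun h => by
    by_contra hc; exact h4 (H.eq_four h hc)
  have c2 : ∀ {φ ψ x}, S.flip.Sp φ ψ x → S.flip.W1 φ x = S.flip.W1 ψ x := fun h => by
    by_contra hc; exact h4 (H.flip.eq_four h hc)
  have h5 := H.four_le
  have cap' : ∀ {φ ψ x}, S.flip.Sp φ ψ x → Nat.card ↥(S.W1 x φ ⊓ S.W1 x ψ) = γ :=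
    fun h => H.flip.cap h
  have E : ∀ {φ ψ ψ' x}, S.flip.Sp φ ψ x → S.flip.Sp φ ψ' x →
      S.W1 x ψ' ≤ S.W1 x φ ⊔ S.W1 x ψ := by
    intro φ ψ ψ' x h h'
    have sp : ∀ {χ χ'}, S.flip.Sp φ χ x → S.flip.Sp φ χ' x → χ' ≠ χ → S.flip.Sp χ χ' x := by
      intro χ χ' a1 a2 a3
      have := a2.mem
      rw [c2 a1] at this
      rcases this with e | e | e
      exacts [absurd e a2.hy, absurd e a3, e]
    have cB : ∀ {χ}, S.flip.Sp φ χ x → Nat.card (S.W1 x χ) = 2 * γ :=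
      fun a => H.hγ.cW a.hφ a.hy a.yφ
    by_cases e : ψ = ψ'
    · rw [e]; exact le_sup_right
    by_cases e' : S.W1 x ψ' ⊓ S.W1 x φ = S.W1 x ψ' ⊓ S.W1 x ψ
    swap
    · exact span2 (cB h') (cap' h'.symm) (cap' (sp h' h e)) e'
    obtain ⟨y, ⟨y1, y2⟩, y3⟩ := exists_not_mem_of_card_lt (T := S.W1 x ψ' ⊓ S.W1 x φ) (X := ln x)
      (by rw [cap' h'.symm, card_ln h.hφ]; omega)
    have y4 : y ∈ S.W1 x ψ := (show y ∈ S.W1 x ψ' ⊓ S.W1 x ψ from e' ▸ ⟨y1, y2⟩).2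
    have spy : ∀ {χ}, y ∈ S.W1 x χ → S.Sp x y χ := by
      rintro χ (a | a | a)
      exacts [absurd (Or.inl a) y3, absurd (Or.inr a) y3, a]
    obtain ⟨χ, a1, a2⟩ := exists_not_mem_of_card_lt (T := S.flip.W1 φ x) (X := S.Lam x y)
      (by rw [H.hγ.cL (spy y1).hx (spy y1).hy (spy y1).yx, H.hγ'.cW h.hx h.hφ h.xφ]; omega)
    have a3 : S.flip.Sp φ χ x := by
      rcases a1 with a | a | a
      · exact absurd (Or.inl a) a2
      · exact absurd (Or.inr (a ▸ spy y2)) a2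
      · exact a
    have a4 : y ∉ S.W1 x χ := fun hc => a2 (Or.inr (spy hc))
    have a5 : ψ ≠ χ := by rintro rfl; exact a4 y4
    have a6 : χ ≠ ψ' := by rintro rfl; exact a4 y1
    have b1 : S.W1 x χ ≤ S.W1 x φ ⊔ S.W1 x ψ := by
      refine span2 (cB a3) (cap' a3.symm) (cap' (sp a3 h a5)) fun hc => a4 ?_
      have : S.W1 x χ ⊓ S.W1 x φ = S.W1 x φ ⊓ S.W1 x ψ :=
        AddSubgroup.eq_of_le_of_card_ge (le_inf inf_le_right (hc ▸ inf_le_right))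
          (by rw [cap' h, cap' a3.symm])
      exact (show y ∈ S.W1 x χ ⊓ S.W1 x φ from this ▸ ⟨y2, y4⟩).1
    refine (span2 (cB h') (cap' h'.symm) (cap' (sp h' a3 a6)) fun hc => a4 ?_).trans
      (sup_le le_sup_left b1)
    exact (show y ∈ S.W1 x ψ' ⊓ S.W1 x χ from hc ▸ ⟨y1, y2⟩).2
  obtain ⟨x, φ, h1, h2, h3⟩ := S.exists_flag
  obtain ⟨ψ, h⟩ := S.flip.exists_sp h2 h1 h3
  have cB := H.hγ.cW h1 h2 h3
  refine rb (S := S) (M := stabilizer G φ ⊓ stabilizer G (S.W1 x φ)) (B := S.W1 x φ)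
    (R := S.W1 x φ ⊔ S.W1 x ψ) h1 h2 (le_inf inf_le_right (inv_iff_le_stab.1 (inv_W1 x φ)))
    inf_le_left le_sup_left (sup_le (W1_le h3) ?_) (self_mem_W1 x φ)
    (inv_iff_le_stab.2 inf_le_right) ?_ ?_ ?_ (by omega)
  · rintro v (rfl | rfl | hv)
    · exact zero_mem _
    · exact S.flip.mem_perp_ln.2 h3
    · exact S.flip.mem_perp_ln.2 (hv.mem_W H.hγ H.n4 φ h.symm.mem)
  · intro k hk v hv
    obtain ⟨a, ha, c, hc, rfl⟩ := AddSubgroup.mem_sup.1 hv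
    rw [smul_add]
    refine AddSubgroup.add_mem _ ((le_sup_left : S.W1 x φ ≤ _) (stab_mem hk.2 ha)) ?_
    have a1 := h.smul k
    rw [mem_stabilizer_iff.1 hk.1] at a1
    have a2 := smul_mem_W1 k hc
    rcases stab_mem hk.2 (self_mem_W1 x φ) with e | e | e
    · exact absurd e (smul_ne0 h1)
    · rw [e] at a1 a2
      exact E h a1 a2
    · obtain ⟨χ, b1, b2⟩ := exists_not_mem_of_card_lt (T := S.Lam x (k • x)) (X := ln φ)
        (by rw [H.hγ.cL e.hx e.hy e.yx, card_ln h2]; omega)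
      rcases b1 with b1 | b1
      · exact absurd (Or.inl b1) b2
      have b3 : χ ≠ φ := fun hc => b2 (Or.inr hc)
      have := E (H.lj e.symm b1.symm b3) a1 a2
      rw [← c1 e, ← c1 b1] at this
      exact (sup_le le_sup_left (E h (H.lj e b1 b3))) this
  · rintro y (rfl | rfl | hy) y0
    · exact absurd rfl y0
    · exact mem_orb_self _ _
    · obtain ⟨g, g1, g2, -⟩ := S.swap h1 y0 h2 h3 hy.yφ
      exact ⟨g, ⟨g1, mem_stabilizer_iff.2 <| by rw [← W1_smul, g1, g2, c1 hy]⟩, g2⟩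
  · have := card_sup_mul_card_inf (S.W1 x φ) (S.W1 x ψ)
    rw [cap' h, cB, H.hγ.cW h1 h.hy h.yφ] at this
    apply Nat.eq_of_mul_eq_mul_right (show 0 < γ by omega)
    rw [this, cB]; ring

end St

end Cfsg.Agent.Proj.CK
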