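import Cfsg.Agent.Proj.CKBase

/-!
# Cameron–Kantor for `q = 2`: pairings, Fourier inversion, flags
-/

set_option autoImplicit false

namespace Cfsg.Agent.Proj.CK

open MulAction Pointwise

section Two

variable {V : Type*} [AddCommGroup V] [Module (ZMod 2) V]

theorem c2 (x : V) : x + x = 0 := ZModModule.add_self x

theorem add_eq_zero2 {x y : V} : x + y = 0 ↔ x = y := by
  constructor
  · intro h; linear_combination (norm := abel1) h - c2 y
  · rintro rfl; exact c2 x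

theorem z2 (a : ZMod 2) : a = 0 ∨ a = 1 := by revert a; decide

theorem z2_ne {a : ZMod 2} : a ≠ 0 ↔ a = 1 := by revert a; decide

/-- the subgroup `{0, x}` -/
def ln (x : V) : AddSubgroup V where
  carrier := {v | v = 0 ∨ v = x}
  zero_mem' := Or.inl rfl
  add_mem' := by
    rintro a b (rfl | rfl) (rfl | rfl) <;> simp [c2]
  neg_mem' := by
    rintro a (rfl | rfl) <;> simp [ZModModule.neg_eq_self]

theorem mem_ln {x v : V} : v ∈ ln x ↔ v = 0 ∨ v = x := Iff.rfl

theorem card_ln {x : V} (hx : x ≠ 0) : Nat.card (ln x) = 2 := by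
  have : (ln x : Set V) = {0, x} := by ext v; simp [mem_ln]
  rw [← Set.ncard_pair hx.symm, ← this, ← Nat.card_coe_set_eq]; rfl

/-- the subgroup `{0, x, y, y + x}` -/
def pl (x y : V) : AddSubgroup V := ln x ⊔ ln y

theorem mem_pl {x y v : V} : v ∈ pl x y ↔ v = 0 ∨ v = x ∨ v = y ∨ v = y + x := by
  rw [pl, AddSubgroup.mem_sup]
  constructor
  · rintro ⟨a, ha, b, hb, rfl⟩
    rcases ha with rfl | rfl <;> rcases hb with rfl | rfl <;> simp [add_comm]
  · rintro (rfl | rfl | rfl | rfl)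
    · exact ⟨0, Or.inl rfl, 0, Or.inl rfl, by simp⟩
    · exact ⟨v, Or.inr rfl, 0, Or.inl rfl, by simp⟩
    · exact ⟨0, Or.inl rfl, v, Or.inr rfl, by simp⟩
    · exact ⟨x, Or.inr rfl, y, Or.inr rfl, add_comm _ _⟩

theorem pl_comm (x y : V) : pl x y = pl y x := sup_comm _ _

theorem card_pl {x y : V} (hx : x ≠ 0) (hy : y ≠ 0) (hxy : y ≠ x) : Nat.card (pl x y) = 4 := by
  have h := card_sup_mul_card_inf (ln x) (ln y)
  have : ln x ⊓ ln y = ⊥ := by
    rw [eq_bot_iff]
    rintro v ⟨h1 | h1, h2 | h2⟩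
    · exact h1
    · exact h1
    · exact h2
    · exact absurd (h2.symm.trans h1) hxy
  rw [this, card_ln hx, card_ln hy] at h
  simpa [pl] using h

/-- the sign character -/
def chi (a : ZMod 2) : ℤ := if a = 0 then 1 else -1

theorem chi_add (a b : ZMod 2) : chi (a + b) = chi a * chi b := by revert a b; decide

theorem chi_add_one (a : ZMod 2) : chi (a + 1) = - chi a := by revert a; decide

end Two

/-- an invariant perfect pairing of two `G`-modules of order `2 ^ n` -/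
structure Pr (G V V' : Type*) [Group G] [AddCommGroup V] [AddCommGroup V'] [DistribMulAction G V]
    [DistribMulAction G V'] where
  b : V →+ V' →+ ZMod 2
  inv : ∀ (g : G) (v : V) (φ : V'), b (g • v) (g • φ) = b v φ
  sepL : ∀ v, (∀ φ, b v φ = 0) → v = 0
  sepR : ∀ φ, (∀ v, b v φ = 0) → φ = 0

variable {G V V' : Type*} [Group G] [AddCommGroup V] [AddCommGroup V'] [DistribMulAction G V]
  [DistribMulAction G V']

namespace Pr

/-- the dual pairing -/
def flip (P : Pr G V V') : Pr G V' V where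
  b := P.b.flip
  inv g φ v := P.inv g v φ
  sepL := P.sepR
  sepR := P.sepL

@[simp] theorem flip_b (P : Pr G V V') (φ : V') (v : V) : P.flip.b φ v = P.b v φ := rfl

variable (P : Pr G V V')

theorem inv' (g : G) (v : V) (φ : V') : P.b (g • v) φ = P.b v (g⁻¹ • φ) := by
  rw [← P.inv g v, smul_inv_smul]

theorem inv'' (g : G) (v : V) (φ : V') : P.b v (g • φ) = P.b (g⁻¹ • v) φ := by
  rw [← P.inv g (g⁻¹ • v), smul_inv_smul]

/-- annihilator -/
def perp (S : AddSubgroup V) : AddSubgroup V' where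
  carrier := {φ | ∀ v ∈ S, P.b v φ = 0}
  zero_mem' := fun _ _ => map_zero _
  add_mem' := fun {a b} ha hb v hv => by rw [map_add, ha v hv, hb v hv, add_zero]
  neg_mem' := fun {a} ha v hv => by rw [map_neg, ha v hv, neg_zero]

theorem mem_perp {S : AddSubgroup V} {φ : V'} : φ ∈ P.perp S ↔ ∀ v ∈ S, P.b v φ = 0 := Iff.rfl

theorem perp_anti {S T : AddSubgroup V} (h : S ≤ T) : P.perp T ≤ P.perp S :=
  fun _ hφ v hv => hφ v (h hv)

theorem perp_sup (S T : AddSubgroup V) : P.perp (S ⊔ T) = P.perp S ⊓ P.perp T := by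
  refine le_antisymm (le_inf (P.perp_anti le_sup_left) (P.perp_anti le_sup_right)) ?_
  rintro φ ⟨h1, h2⟩ v hv
  obtain ⟨a, ha, c, hc, rfl⟩ := AddSubgroup.mem_sup.1 hv
  rw [map_add, AddMonoidHom.add_apply, h1 a ha, h2 c hc, add_zero]

theorem le_perp_perp (S : AddSubgroup V) : S ≤ P.flip.perp (P.perp S) :=
  fun v hv _ hφ => hφ v hv

theorem inv_perp {A : Subgroup G} {S : AddSubgroup V} (h : Inv A (S : Set V)) :
    Inv A (P.perp S : Set V') := by
  intro g hg φ hφ v hv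
  rw [P.inv'']
  exact hφ _ (h _ (A.inv_mem hg) v hv)

theorem perp_closure {Y : Set V} {φ : V'} :
    φ ∈ P.perp (AddSubgroup.closure Y) ↔ ∀ y ∈ Y, P.b y φ = 0 := by
  refine ⟨fun h y hy => h y (AddSubgroup.subset_closure hy), fun h v hv => ?_⟩
  have : AddSubgroup.closure Y ≤ (P.b.flip φ).ker := (AddSubgroup.closure_le _).2 h
  exact this hv

theorem mem_perp_ln [Module (ZMod 2) V] {x : V} {φ : V'} : φ ∈ P.perp (ln x) ↔ P.b x φ = 0 :=
  ⟨fun h => h x (Or.inr rfl), fun h v hv => by rcases hv with rfl | rfl <;> simp [h]⟩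

theorem mem_perp_pl [Module (ZMod 2) V] {x y : V} {φ : V'} :
    φ ∈ P.perp (pl x y) ↔ P.b x φ = 0 ∧ P.b y φ = 0 := by
  rw [pl, perp_sup, AddSubgroup.mem_inf, mem_perp_ln, mem_perp_ln]

open Classical in
/-- character sum over a set -/
noncomputable def sig [Fintype V'] (O : Set V') (z : V) : ℤ :=
  ∑ ψ : V', if ψ ∈ O then chi (P.b z ψ) else 0

theorem sig_eq_zero [Fintype V'] [Module (ZMod 2) V'] {O : Set V'} {z : V} {ε : V'}
    (hε : P.b z ε = 1) (hO : ∀ ψ ∈ O, ψ + ε ∈ O) : P.sig O z = 0 := by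
  classical
  have h := Equiv.sum_comp (Equiv.addRight ε) (fun ψ => if ψ ∈ O then chi (P.b z ψ) else 0)
  have h2 : ∀ ψ, (if ψ + ε ∈ O then chi (P.b z (ψ + ε)) else 0) =
      - (if ψ ∈ O then chi (P.b z ψ) else 0) := by
    intro ψ
    by_cases hψ : ψ ∈ O
    · rw [if_pos (hO ψ hψ), if_pos hψ, map_add, hε, chi_add_one]
    · have : ψ + ε ∉ O := fun hc => hψ (by simpa [add_assoc, c2] using hO _ hc)
      rw [if_neg this, if_neg hψ, neg_zero]
  have h' := (Finset.sum_congr rfl (fun ψ _ => h2 ψ)).symm.trans h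
  rw [Finset.sum_neg_distrib] at h'
  unfold sig
  exact neg_eq_self.1 h'

theorem sig_univ [Fintype V'] [Module (ZMod 2) V'] (z : V) [Decidable (z = 0)] :
    ∑ ψ : V', chi (P.b z ψ) = if z = 0 then (Nat.card V' : ℤ) else 0 := by
  split_ifs with h
  · simp [h, chi]
  · obtain ⟨ε, hε⟩ : ∃ ε, P.b z ε ≠ 0 := by
      by_contra! hc; exact h (P.sepL z hc)
    have := P.sig_eq_zero (O := Set.univ) (z2_ne.1 hε) (fun _ _ => trivial)
    simpa [sig] using this

theorem card_mul_card_perp [Finite V] [Finite V'] [Module (ZMod 2) V] [Module (ZMod 2) V']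
    (S : AddSubgroup V) : Nat.card S * Nat.card (P.perp S) = Nat.card V' := by
  classical
  haveI := Fintype.ofFinite V
  haveI := Fintype.ofFinite V'
  have h1 : ∑ v : V, (if v ∈ S then ∑ ψ : V', chi (P.b v ψ) else 0) = Nat.card V' := by
    rw [Finset.sum_eq_single 0]
    · rw [if_pos S.zero_mem, P.sig_univ, if_pos rfl]
    · intro v _ hv; simp [P.sig_univ, hv]
    · simp
  have h2 : ∀ ψ : V', ∑ v : V, (if v ∈ S then chi (P.b v ψ) else 0) =
      if ψ ∈ P.perp S then (Nat.card S : ℤ) else 0 := by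
    intro ψ
    split_ifs with h
    · rw [Finset.sum_congr rfl (g := fun v => if v ∈ S then (1 : ℤ) else 0)]
      · simp [Nat.card_eq_fintype_card, Fintype.card_subtype]
      · intro v _
        split_ifs with hv
        · simp [h v hv, chi]
        · rfl
    · obtain ⟨ε, hε, hε'⟩ : ∃ ε ∈ S, P.b ε ψ ≠ 0 := by
        by_contra! hc; exact h hc
      have := P.flip.sig_eq_zero (O := (S : Set V)) (z := ψ) (z2_ne.1 hε')
        (fun v hv => S.add_mem hv hε)
      simpa [sig] using this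
  have h3 : ∑ v : V, (if v ∈ S then ∑ ψ : V', chi (P.b v ψ) else 0) =
      ∑ ψ : V', ∑ v : V, (if v ∈ S then chi (P.b v ψ) else 0) := by
    rw [Finset.sum_comm]
    refine Finset.sum_congr rfl fun v _ => ?_
    split_ifs <;> simp
  rw [h3] at h1
  simp only [h2] at h1
  rw [Finset.sum_ite, Finset.sum_const_zero, add_zero, Finset.sum_const] at h1
  have h4 : Nat.card (P.perp S) = (Finset.univ.filter (fun ψ => ψ ∈ P.perp S)).card := by
    simp [Nat.card_eq_fintype_card, Fintype.card_subtype]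
  rw [h4]
  have : ((Nat.card S * (Finset.univ.filter (fun ψ => ψ ∈ P.perp S)).card : ℕ) : ℤ) =
      Nat.card V' := by
    rw [← h1]; simp [mul_comm]
  exact_mod_cast this

variable [Finite V] [Finite V'] [Module (ZMod 2) V] [Module (ZMod 2) V']

include P in
theorem card_eq : Nat.card V' = Nat.card V := by
  have h := P.card_mul_card_perp ⊤
  have : P.perp ⊤ = ⊥ := by
    rw [eq_bot_iff]; exact fun φ hφ => P.sepR φ fun v => hφ v trivial
  rw [this] at h
  simpa using h.symm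

theorem perp_perp (S : AddSubgroup V) : P.flip.perp (P.perp S) = S := by
  have h1 := P.card_mul_card_perp S
  have h2 := P.flip.card_mul_card_perp (P.perp S)
  rw [P.card_eq] at h1
  have hp : 0 < Nat.card (P.perp S) := Nat.card_pos
  refine (AddSubgroup.eq_of_le_of_card_ge (P.le_perp_perp S) (le_of_eq ?_)).symm
  apply Nat.eq_of_mul_eq_mul_left hp
  rw [h2, ← h1, mul_comm]

theorem exists_sep {S : AddSubgroup V} {z : V} (hz : z ∉ S) : ∃ ε ∈ P.perp S, P.b z ε = 1 := by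
  by_contra! hc
  apply hz
  rw [← P.perp_perp S]
  intro ε hε
  exact (z2 _).resolve_right (hc ε hε)

theorem le_of_perp_le {S T : AddSubgroup V} (h : P.perp T ≤ P.perp S) : S ≤ T := by
  rw [← P.perp_perp S, ← P.perp_perp T]
  exact P.flip.perp_anti h

/-- Fourier inversion for orbits -/
theorem fourier (A : Subgroup G) (z₁ z₂ : V)
    (h : ∀ ψ : V', (∀ ψ' ∈ orb A ψ, P.b z₁ ψ' = P.b z₂ ψ') ∨ ∃ S : Set V', orb A ψ ⊆ S ∧
      (∀ ψ' ∈ S \ orb A ψ, P.b z₁ ψ' = P.b z₂ ψ') ∧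
      (∃ ε, P.b z₁ ε = 1 ∧ ∀ ψ' ∈ S, ψ' + ε ∈ S) ∧ (∃ ε, P.b z₂ ε = 1 ∧ ∀ ψ' ∈ S, ψ' + ε ∈ S)) :
    ∃ g ∈ A, g • z₁ = z₂ := by
  classical
  haveI := Fintype.ofFinite V
  haveI := Fintype.ofFinite V'
  have hs : ∀ ψ, P.sig (orb A ψ) z₁ = P.sig (orb A ψ) z₂ := by
    intro ψ
    rcases h ψ with h | ⟨S, h1, h2, ⟨ε₁, a1, a2⟩, ε₂, b1, b2⟩
    · refine Finset.sum_congr rfl fun ψ' _ => ?_
      split_ifs with hψ
      · rw [h _ hψ]
      · rfl
    · have e : ∀ z, P.sig S z = P.sig (orb A ψ) z + P.sig (S \ orb A ψ) z := by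
        intro z
        unfold sig
        rw [← Finset.sum_add_distrib]
        refine Finset.sum_congr rfl fun ψ' _ => ?_
        by_cases c1 : ψ' ∈ orb A ψ
        · simp [c1, h1 c1]
        · by_cases c2 : ψ' ∈ S <;> simp [c1, c2]
      have e1 := e z₁
      have e2 := e z₂
      rw [P.sig_eq_zero a1 a2] at e1
      rw [P.sig_eq_zero b1 b2] at e2
      have : P.sig (S \ orb A ψ) z₁ = P.sig (S \ orb A ψ) z₂ := by
        refine Finset.sum_congr rfl fun ψ' _ => ?_
        split_ifs with hψ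
        · rw [h2 _ hψ]
        · rfl
      omega
  set F : V' → ℤ := fun ψ => P.flip.sig (orb A z₁) ψ with hF
  have hFi : ∀ g ∈ A, ∀ ψ, F (g • ψ) = F ψ := by
    intro g hg ψ
    simp only [hF, sig]
    rw [← Equiv.sum_comp (MulAction.toPerm g)]
    refine Finset.sum_congr rfl fun v _ => ?_
    have : g • v ∈ orb A z₁ ↔ v ∈ orb A z₁ :=
      ⟨fun h => by simpa using inv_orb A z₁ _ (A.inv_mem hg) _ h, fun h => inv_orb A z₁ _ hg _ h⟩
    simp only [MulAction.toPerm_apply, this, flip_b, P.inv]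
  have hsum : ∀ z : V, ∑ ψ, F ψ * chi (P.b z ψ) =
      if z ∈ orb A z₁ then (Nat.card V' : ℤ) else 0 := by
    intro z
    simp only [hF, sig, Finset.sum_mul]
    rw [Finset.sum_comm, Finset.sum_eq_single z]
    · split_ifs with hz
      · simp only [flip_b, ← chi_add, CharTwo.add_self_eq_zero]
        simp [chi]
      · simp
    · intro v _ hv
      split_ifs with hz
      · have := P.sig_univ (v + z)
        rw [if_neg (fun hc => hv (add_eq_zero2.1 hc))] at this
        simpa [chi_add] using this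
      · simp
    · simp
  have hz : ∑ ψ, F ψ * (chi (P.b z₁ ψ) - chi (P.b z₂ ψ)) = 0 := by
    refine Finset.sum_cancels_of_partition_cancels
      ⟨fun a c => a ∈ orb A c, ⟨mem_orb_self A, orb_symm, fun h h' => orb_trans h' h⟩⟩ ?_
    intro ψ _
    rw [Finset.sum_congr rfl (g := fun a => F ψ * (chi (P.b z₁ a) - chi (P.b z₂ a)))]
    · rw [← Finset.mul_sum, Finset.sum_sub_distrib, Finset.sum_filter, Finset.sum_filter]
      have := hs ψ
      unfold sig at this
      refine mul_eq_zero_of_right _ (sub_eq_zero.2 ?_)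
      convert this <;> rfl
    · intro a ha
      obtain ⟨g, hg, rfl⟩ := (Finset.mem_filter.1 ha).2
      rw [hFi g hg]
  simp only [mul_sub, Finset.sum_sub_distrib, hsum, if_pos (mem_orb_self A z₁)] at hz
  by_contra hc
  rw [if_neg (show z₂ ∉ orb A z₁ from hc)] at hz
  have : 0 < Nat.card V' := Nat.card_pos
  omega

end Pr

/-- double transitivity on non-zero vectors -/
def T2 (G V : Type*) [Group G] [AddCommGroup V] [DistribMulAction G V] : Prop :=
  ∀ x y x' y' : V, x ≠ 0 → y ≠ 0 → y ≠ x → x' ≠ 0 → y' ≠ 0 → y' ≠ x' →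
    ∃ g : G, g • x = x' ∧ g • y = y'

theorem smul_ne0 {g : G} {x : V} (hx : x ≠ 0) : g • x ≠ 0 := fun h =>
  hx (by simpa using congrArg (fun v => g⁻¹ • v) h)

theorem exists_third [Finite V] (h : 4 ≤ Nat.card V) (a c d : V) : ∃ v, v ≠ a ∧ v ≠ c ∧ v ≠ d := by
  classical
  haveI := Fintype.ofFinite V
  by_contra! hc
  have : (Finset.univ : Finset V) ⊆ {a, c, d} := by
    intro v _
    by_cases h1 : v = a
    · simp [h1]
    by_cases h2 : v = c
    · simp [h2]
    simp [hc v h1 h2]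
  have h1 := Finset.card_le_card this
  have h2 := Finset.card_le_three (a := a) (b := c) (c := d)
  rw [Finset.card_univ, ← Nat.card_eq_fintype_card] at h1
  omega

theorem T2.tr [Finite V] (h : T2 G V) (h4 : 4 ≤ Nat.card V) {x x' : V} (hx : x ≠ 0)
    (hx' : x' ≠ 0) : ∃ g : G, g • x = x' := by
  obtain ⟨v, h1, h2, h3⟩ := exists_third h4 0 x x'
  obtain ⟨g, hg, -⟩ := h x v x' v hx h1 h2 hx' h1 h3
  exact ⟨g, hg⟩

namespace Pr

variable (P : Pr G V V') [Finite V] [Finite V'] [Module (ZMod 2) V] [Module (ZMod 2) V']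

include P in
theorem tr_dual (h : T2 G V) (h4 : 4 ≤ Nat.card V) {φ φ' : V'} (hφ : φ ≠ 0) (hφ' : φ' ≠ 0) :
    ∃ g : G, g • φ = φ' := by
  obtain ⟨g, -, hg⟩ := P.flip.fourier ⊤ φ φ' fun v => by
    by_cases hv : v = 0
    · left; rintro _ ⟨g, -, rfl⟩; simp [hv]
    · right
      refine ⟨Set.univ, Set.subset_univ _, fun w hw => ?_, ?_, ?_⟩
      · by_cases hw0 : w = 0
        · simp [hw0]
        · obtain ⟨g, hg⟩ := h.tr h4 hv hw0
          exact absurd ⟨g, trivial, hg⟩ hw.2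
      · obtain ⟨ε, -, e⟩ := P.flip.exists_sep (S := ⊥) hφ
        exact ⟨ε, e, fun _ _ => trivial⟩
      · obtain ⟨ε, -, e⟩ := P.flip.exists_sep (S := ⊥) hφ'
        exact ⟨ε, e, fun _ _ => trivial⟩
  exact ⟨g, hg⟩

theorem tr_stab (h : T2 G V) {x : V} (hx : x ≠ 0) {φ φ' : V'} (hφ : φ ≠ 0) (hφ' : φ' ≠ 0)
    (e : P.b x φ = P.b x φ') : ∃ g : G, g • x = x ∧ g • φ = φ' := by
  refine P.flip.fourier (stabilizer G x) φ φ' fun v => ?_
  have hl : ∀ w ∈ ln x, P.b w φ = P.b w φ' := by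
    rintro w (rfl | rfl)
    · simp
    · exact e
  by_cases hv : v ∈ ln x
  · left
    rintro _ ⟨g, hg, rfl⟩
    apply hl
    rcases hv with rfl | rfl
    · simp
    · exact Or.inr hg
  · right
    refine ⟨Set.univ, Set.subset_univ _, fun w hw => ?_, ?_, ?_⟩
    · by_cases hw0 : w ∈ ln x
      · exact hl w hw0
      · simp only [mem_ln, not_or] at hv hw0
        obtain ⟨g, hg, hg'⟩ := h x v x w hx hv.1 hv.2 hx hw0.1 hw0.2
        exact absurd ⟨g, hg, hg'⟩ hw.2
    · obtain ⟨ε, -, e⟩ := P.flip.exists_sep (S := ⊥) hφ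
      exact ⟨ε, e, fun _ _ => trivial⟩
    · obtain ⟨ε, -, e⟩ := P.flip.exists_sep (S := ⊥) hφ'
      exact ⟨ε, e, fun _ _ => trivial⟩

/-- transitivity on flags and on antiflags -/
theorem tr_flag (h : T2 G V) (h4 : 4 ≤ Nat.card V) {x x' : V} (hx : x ≠ 0) (hx' : x' ≠ 0)
    {φ φ' : V'} (hφ : φ ≠ 0) (hφ' : φ' ≠ 0) (e : P.b x φ = P.b x' φ') :
    ∃ g : G, g • x = x' ∧ g • φ = φ' := by
  obtain ⟨g, hg⟩ := h.tr h4 hx hx'
  obtain ⟨k, hk, hk'⟩ := P.tr_stab h hx' (smul_ne0 (g := g) hφ) hφ' (by rw [← e, ← hg, P.inv])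
  exact ⟨k * g, by rw [mul_smul, hg, hk], by rw [mul_smul, hk']⟩

include P in
theorem t2_dual (h : T2 G V) (h4 : 4 ≤ Nat.card V) : T2 G V' := by
  intro φ ψ φ' ψ' hφ hψ hψφ hφ' hψ' hψφ'
  obtain ⟨g, hg⟩ := P.tr_dual h h4 hφ hφ'
  have h1 : g • ψ ∉ ln φ' := by
    rintro (h | h)
    · exact smul_ne0 hψ h
    · exact hψφ (smul_left_cancel g (h.trans hg.symm))
  have h2 : ψ' ∉ ln φ' := by rintro (h | h); exacts [hψ' h, hψφ' h]
  obtain ⟨ε₁, a1, a2⟩ := P.flip.exists_sep h1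
  obtain ⟨ε₂, b1, b2⟩ := P.flip.exists_sep h2
  rw [mem_perp_ln, flip_b] at a1 b1
  obtain ⟨k, hk, hk'⟩ := P.flip.fourier (stabilizer G φ') (g • ψ) ψ' fun v => by
    by_cases hv : v = 0
    · left; rintro _ ⟨g, -, rfl⟩; simp [hv]
    · right
      refine ⟨{w | P.b w φ' = P.b v φ'}, ?_, fun w hw => ?_, ⟨ε₁, a2, fun w hw => ?_⟩,
        ⟨ε₂, b2, fun w hw => ?_⟩⟩
      · rintro _ ⟨k, hk, rfl⟩
        show P.b (k • v) φ' = _
        conv_lhs => rw [← mem_stabilizer_iff.1 hk, P.inv]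
      · by_cases hw0 : w = 0
        · simp [hw0]
        · obtain ⟨k, hk, hk'⟩ := P.tr_flag h h4 hv hw0 hφ' hφ' hw.1.symm
          exact absurd ⟨k, hk', hk⟩ hw.2
      · simpa [a1] using hw
      · simpa [b1] using hw
  exact ⟨k * g, by rw [mul_smul, hg, mem_stabilizer_iff.1 hk], by rw [mul_smul, hk']⟩

end Pr

end Cfsg.Agent.Proj.CK
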