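import Cfsg.Agent.Proj.CKTri
import Cfsg.Agent.Misc.Zsigmondy

/-!
# Cameron–Kantor for `q = 2`: Perin's argument produces a transvection
-/

set_option autoImplicit false

namespace Cfsg.Agent.Proj.CK

open MulAction Pointwise

variable {G V V' : Type*} [Group G] [AddCommGroup V] [AddCommGroup V'] [DistribMulAction G V]
  [DistribMulAction G V']

/-- `v ↦ g v - v` -/
def dif (g : G) : V →+ V := DistribMulAction.toAddMonoidHom V g - AddMonoidHom.id V

theorem dif_apply (g : G) (v : V) : dif g v = g • v - v := rfl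

/-- vectors fixed modulo `L` -/
def rel (g : G) (L : AddSubgroup V) : AddSubgroup V := L.comap (dif g)

theorem mem_rel {g : G} {L : AddSubgroup V} {v : V} : v ∈ rel g L ↔ g • v - v ∈ L := Iff.rfl

theorem le_rel {g : G} {L : AddSubgroup V} (h : ∀ v ∈ L, g • v ∈ L) : L ≤ rel g L :=
  fun v hv => L.sub_mem (h v hv) hv

theorem sq_dif [Module (ZMod 2) V] (g : G) (v : V) :
    g • (g • v - v) - (g • v - v) = (g ^ 2) • v - v := by
  rw [pow_two, mul_smul, smul_sub]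
  linear_combination (norm := abel1) c2 v - c2 (g • v)

theorem card_rel [Finite V] [Module (ZMod 2) V] {g : G} {L : AddSubgroup V}
    (h : ∀ v ∈ L, g • v ∈ L) (h2 : ∀ v, v ∈ rel (g ^ 2) L) :
    Nat.card L * Nat.card V ≤ Nat.card (rel g L) ^ 2 := by
  have h1 : (rel g L).index ≤ L.relIndex (rel g L) := by
    rw [rel, AddSubgroup.index_comap]
    refine AddSubgroup.relIndex_le_of_le_right ?_ AddSubgroup.index_ne_zero_of_finite
    rintro _ ⟨v, rfl⟩
    show g • (g • v - v) - (g • v - v) ∈ L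
    rw [sq_dif]; exact h2 v
  have e : L.relIndex (rel g L) * Nat.card L = Nat.card (rel g L) := by
    rw [AddSubgroup.relIndex, ← (L.addSubgroupOf (rel g L)).index_mul_card,
      Nat.card_congr (AddSubgroup.addSubgroupOfEquivOfLe (le_rel h)).toEquiv]
  rw [← (rel g L).index_mul_card]
  calc Nat.card L * ((rel g L).index * Nat.card (rel g L))
      ≤ Nat.card L * (L.relIndex (rel g L) * Nat.card (rel g L)) := by gcongr
    _ = _ := by rw [← mul_assoc, mul_comm (Nat.card L), e, pow_two]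

theorem exists_rel [Module (ZMod 2) V] {L : AddSubgroup V} : ∀ (k : ℕ) (u : G),
    (∃ v ∉ L, v ∈ rel (u ^ 2 ^ k) L) → ∃ v ∉ L, v ∈ rel u L := by
  intro k
  induction k with
  | zero => intro u h; simpa using h
  | succ k ih =>
    intro u h
    rw [pow_succ', pow_mul] at h
    obtain ⟨w, h1, h2⟩ := ih _ h
    by_cases e : w ∈ rel u L
    · exact ⟨w, h1, e⟩
    · exact ⟨u • w - w, e, by rw [mem_rel, sq_dif]; exact h2⟩

theorem prime_dvd_card_sub [Finite G] [Finite V] {ρ : G} {r : ℕ} (hr : r.Prime) (hρ : ρ ^ r = 1)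
    {T : AddSubgroup V} (hT : ∀ v ∈ T, ρ • v ∈ T) :
    r ∣ Nat.card T - Nat.card ↥(T ⊓ rel ρ ⊥) := by
  have hi : ∀ {T : AddSubgroup V}, (∀ v ∈ T, ρ • v ∈ T) → Inv (Subgroup.zpowers ρ) (T : Set V) := by
    intro T hT g hg v hv
    obtain ⟨k, rfl⟩ := mem_powers_iff_mem_zpowers.2 hg
    induction k with
    | zero => simpa using hv
    | succ k ih => simp only [pow_succ', mul_smul]; exact hT _ (ih (Subgroup.npow_mem_zpowers _ _))
  have := dvd_ncard_of_forall_orb (A := Subgroup.zpowers ρ) (k := r) _ ((T : Set V) \ rel ρ (⊥ : AddSubgroup V))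
    (Set.toFinite _) rfl ((hi hT).diff (hi (T := rel ρ ⊥) fun v hv => by
      rw [mem_rel, AddSubgroup.mem_bot, sub_eq_zero] at hv ⊢; rw [hv, hv])) fun z hz => by
      have h1 := Dvd.intro _ (ncard_orb_mul (Subgroup.zpowers ρ) z)
      rw [Nat.card_zpowers] at h1
      rcases (Nat.dvd_prime hr).1 (h1.trans (orderOf_dvd_of_pow_eq_one hρ)) with h | h
      · exfalso
        obtain ⟨a, ha⟩ := Set.ncard_eq_one.1 h
        have e1 : z ∈ orb (Subgroup.zpowers ρ) z := mem_orb_self _ _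
        have e2 : ρ • z ∈ orb (Subgroup.zpowers ρ) z := ⟨ρ, Subgroup.mem_zpowers ρ, rfl⟩
        rw [ha] at e1 e2
        exact hz.2 (sub_eq_zero.2 (e2.trans e1.symm))
      · rw [h]
  have h2 := ncard_diff' T (rel ρ ⊥)
  rwa [show ((T : Set V) \ rel ρ (⊥ : AddSubgroup V)).ncard = Nat.card T - Nat.card ↥(T ⊓ rel ρ ⊥) by omega] at this

theorem ppd_aux {m r a c : ℕ} (h : Misc.Zsig.IsPPD 2 (m + 1) r) (hd : r ∣ 2 ^ a - 2 ^ c)
    (hca : c < a) : c + (m + 1) ≤ a := by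
  obtain ⟨d, rfl⟩ := Nat.exists_eq_add_of_lt hca
  rw [add_assoc, pow_add, ← Nat.mul_sub_one] at hd
  rcases (Nat.Prime.dvd_mul h.1).1 hd with h1 | h1
  · have := (Nat.prime_dvd_prime_iff_eq h.1 Nat.prime_two).1 (h.1.dvd_of_dvd_pow h1)
    subst this
    exact absurd (St.odd_aux m) (Nat.not_odd_iff_even.2 (even_iff_two_dvd.2 h.2.1))
  · by_contra hc
    exact h.2.2 (d + 1) (by omega) (by omega) h1

variable [Finite V] [Finite V'] [Module (ZMod 2) V] [Module (ZMod 2) V'] [Finite G]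

theorem St.exists_transvection (S : St G V V') (hs : Even S.s) (hs0 : S.s ≠ 0)
    (hf : ∀ g : G, (∀ v : V, g • v = v) → g = 1) :
    ∃ t : G, t ≠ 1 ∧ Nat.card V ≤ 2 * Nat.card (rel t (⊥ : AddSubgroup V)) := by
  obtain ⟨r, hr⟩ := Misc.Zsig.zsigmondy (a := 2) (n := S.s + 1) one_lt_two (by omega)
    (by rintro ⟨-, h⟩; obtain ⟨k, hk⟩ := hs; omega) (by rintro ⟨h, -⟩; obtain ⟨k, hk⟩ := hs; omega)
  haveI : Fact r.Prime := ⟨hr.1⟩
  have r2 : ¬ r ∣ 2 := fun h => by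
    have := hr.lt (by omega) one_lt_two
    have := Nat.le_of_dvd two_pos h
    omega
  obtain ⟨x, hx, -⟩ := exists_third S.four_le 0 0 0
  obtain ⟨y, hy, hyx, -⟩ := exists_third S.four_le 0 x x
  set A := stabilizer G x ⊓ stabilizer G y with hA
  set L := pl x y with hL
  have cL : Nat.card L = 2 ^ 2 := card_pl hx hy hyx
  have pw : ∀ T : AddSubgroup V, ∃ a ≤ S.s + 3, Nat.card T = 2 ^ a := fun T =>
    (Nat.dvd_prime_pow Nat.prime_two).1 (S.cV ▸ AddSubgroup.card_addSubgroup_dvd_card T)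
  have fixL : ∀ ρ ∈ A, ∀ v ∈ L, ρ • v = v := by
    intro ρ hρ v hv
    have h1 : ρ • x = x := hρ.1
    have h2 : ρ • y = y := hρ.2
    rcases mem_pl.1 hv with rfl | rfl | rfl | rfl <;> simp [h1, h2]
  have F1 : ∀ ρ ∈ A, ρ ^ r = 1 → ρ ≠ 1 → rel ρ ⊥ = L := by
    intro ρ hρ h1 h2
    have hle : L ≤ rel ρ ⊥ := fun v hv => sub_eq_zero.2 (fixL ρ hρ v hv)
    have := prime_dvd_card_sub hr.1 h1 (T := (⊤ : AddSubgroup V)) fun _ _ => trivial
    obtain ⟨c, c1, c2⟩ := pw (rel ρ ⊥)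
    rw [top_inf_eq, AddSubgroup.card_top, S.cV, c2] at this
    have hlt : c < S.s + 3 := by
      refine lt_of_le_of_ne c1 fun e => h2 (hf ρ fun v => ?_)
      have : rel ρ (⊥ : AddSubgroup V) = ⊤ := AddSubgroup.eq_top_of_card_eq _ (by rw [c2, e, S.cV])
      exact sub_eq_zero.1 (show v ∈ rel ρ ⊥ from this ▸ trivial)
    have := ppd_aux hr this hlt
    exact (AddSubgroup.eq_of_le_of_card_ge hle (by
      rw [c2, cL]; exact Nat.pow_le_pow_right two_pos (by omega))).symm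
  have F2 : ∀ ρ ∈ A, ρ ^ r = 1 → ρ ≠ 1 → ∀ T : AddSubgroup V, L ≤ T → (∀ v ∈ T, ρ • v ∈ T) →
      T = L ∨ T = ⊤ := by
    intro ρ hρ h1 h2 T hT hi
    have := prime_dvd_card_sub hr.1 h1 hi
    obtain ⟨a, a1, a2⟩ := pw T
    rw [F1 ρ hρ h1 h2, inf_eq_right.2 hT, a2, cL] at this
    by_cases ha : 2 < a
    · have := ppd_aux hr this ha
      exact Or.inr (AddSubgroup.eq_top_of_card_eq _ (by rw [a2, S.cV]; congr 1; omega))
    · exact Or.inl (AddSubgroup.eq_of_le_of_card_ge hT (by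
        rw [a2, cL]; exact Nat.pow_le_pow_right two_pos (by omega))).symm
  have Lne : ∃ v, v ∉ L := by
    obtain ⟨v, -, h⟩ := exists_not_mem_of_card_lt (T := ⊤) (X := L) (by
      rw [cL, AddSubgroup.card_top, S.cV]; exact Nat.pow_lt_pow_right one_lt_two (by omega))
    exact ⟨v, h⟩
  have F3 : ∀ ρ ∈ A, ρ ^ r = 1 → ρ ≠ 1 → ∀ (u : G) (k : ℕ), u ^ 2 ^ k = 1 →
      (∀ v ∈ L, u • v ∈ L) → Commute u ρ → ∀ v, v ∈ rel u L := by
    intro ρ hρ h1 h2 u k hu hL hc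
    rcases F2 ρ hρ h1 h2 (rel u L) (le_rel hL) (fun v hv => by
      rw [mem_rel, ← mul_smul, hc.eq, mul_smul, ← smul_sub, fixL ρ hρ _ (mem_rel.1 hv)]; exact hv) with h | h
    · obtain ⟨v, hv⟩ := Lne
      obtain ⟨w, w1, w2⟩ := exists_rel k u ⟨v, hv, by simp [hu, mem_rel]⟩
      exact absurd (h ▸ w2) w1
    · rw [h]; exact fun _ => trivial
  have F4 : ∀ ρ ∈ A, ρ ^ r = 1 → ρ ≠ 1 → ∀ v : V, ρ • (ρ • v - v) = ρ • v - v → ρ • v = v := by
    intro ρ hρ h1 h2 v hv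
    have a1 : (ρ ^ 2) • v = v := by
      rw [← sub_eq_zero, ← sq_dif, hv, sub_self]
    obtain ⟨k, hk⟩ : Odd r := hr.1.odd_of_ne_two (by rintro rfl; exact r2 dvd_rfl)
    have a2 : ((ρ ^ 2) ^ k) • v = v := (stabilizer G v).pow_mem a1 k
    have : (ρ ^ r) • v = v := by rw [h1, one_smul]
    rwa [hk, pow_succ', pow_mul, mul_smul, a2] at this
  have F5 : ∀ ρ ∈ A, ρ ^ r = 1 → ρ ≠ 1 → ∀ (t : G) (k : ℕ), (t ^ 2) ^ 2 ^ k = 1 →
      (∀ v ∈ L, t • v ∈ L) → t * ρ * t⁻¹ = ρ⁻¹ → False := by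
    intro ρ hρ h1 h2 t k ht hL hc
    have e1 : t * ρ = ρ⁻¹ * t := by rw [← hc]; group
    have e2 : t * ρ⁻¹ * t⁻¹ = ρ := inv_inj.1 (Eq.trans (by group) hc)
    have hc2 : Commute (t ^ 2) ρ := by
      rw [Commute, SemiconjBy, pow_two, mul_assoc, e1, ← mul_assoc]
      conv_rhs => rw [← e2]
      group
    have a1 := F3 ρ hρ h1 h2 _ k ht (fun v hv => by
      rw [pow_two, mul_smul]; exact hL _ (hL v hv)) hc2
    have hL' : ∀ v ∈ L, (t * ρ) • v ∈ L := fun v hv => by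
      rw [mul_smul, fixL ρ hρ v hv]; exact hL v hv
    have b1 := card_rel hL a1
    have b2 := card_rel hL' (by
      rw [show (t * ρ) ^ 2 = t ^ 2 by
        rw [pow_two]; nth_rewrite 2 [e1]; rw [pow_two]; group]
      exact a1)
    have b3 : rel t L ⊓ rel (t * ρ) L ≤ L := by
      rintro v ⟨v1, v2⟩
      have v3 : t • (ρ • v - v) ∈ L := by
        have := L.sub_mem (mem_rel.1 v2) (mem_rel.1 v1)
        rwa [mul_smul, sub_sub_sub_cancel_right, ← smul_sub] at this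
      have v4 : ρ • v - v ∈ L := by
        have hst : t ∈ stabilizer G L := smul_pl_eq (hL x (left_mem_pl _ _)) (hL y (right_mem_pl _ _))
        simpa using stab_mem ((stabilizer G L).inv_mem hst) v3
      rw [← F1 ρ hρ h1 h2]
      exact sub_eq_zero.2 (F4 ρ hρ h1 h2 v (fixL ρ hρ _ v4))
    have b4 := card_sup_mul_card_inf (rel t L) (rel (t * ρ) L)
    have b5 := Nat.mul_le_mul (AddSubgroup.card_le_of_le (le_top : rel t L ⊔ rel (t * ρ) L ≤ ⊤))
      (AddSubgroup.card_le_of_le b3)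
    obtain ⟨a, -, ha⟩ := pw (rel t L)
    obtain ⟨a', -, ha'⟩ := pw (rel (t * ρ) L)
    rw [b4, ha, ha', AddSubgroup.card_top, S.cV, cL, ← pow_add, ← pow_add,
      Nat.pow_le_pow_iff_right one_lt_two] at b5
    rw [ha, S.cV, cL, ← pow_add, ← pow_mul, Nat.pow_le_pow_iff_right one_lt_two] at b1
    rw [ha', S.cV, cL, ← pow_add, ← pow_mul, Nat.pow_le_pow_iff_right one_lt_two] at b2
    obtain ⟨j, hj⟩ := hs
    omega
  obtain ⟨R⟩ : Nonempty (Sylow r A) := inferInstance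
  set R' : Subgroup G := (R : Subgroup A).map A.subtype with hR'
  have hRA : R' ≤ A := Subgroup.map_subtype_le _
  have hRp : IsPGroup r R' := R.isPGroup'.map _
  obtain ⟨s, s1, s2, s3⟩ : ∃ s : G, s • x = y ∧ s • y = x ∧
      s ∈ Subgroup.normalizer (R' : Set G) := by
    obtain ⟨g, g1, g2⟩ := S.t x y y x hx hy hyx hy hx hyx.symm
    have hg : g ∈ Subgroup.normalizer (A : Set G) := by
      refine Subgroup.mem_normalizer_fintype fun a ha => ⟨?_, ?_⟩
      · show (g * a * g⁻¹) • x = x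
        rw [mul_smul, mul_smul, ← g2, inv_smul_smul, mem_stabilizer_iff.1 ha.2]
      · show (g * a * g⁻¹) • y = y
        rw [mul_smul, mul_smul, ← g1, inv_smul_smul, mem_stabilizer_iff.1 ha.1]
    obtain ⟨a, ha⟩ := exists_smul_eq A (A.normalizerMonoidHom ⟨g, hg⟩ • R) R
    refine ⟨a * g, by rw [mul_smul, g1]; exact a.2.2, by rw [mul_smul, g2]; exact a.2.1, ?_⟩
    refine Subgroup.mem_normalizer_fintype ?_
    rintro _ ⟨ρ, hρ, rfl⟩
    have : MulAut.conj a • A.normalizerMonoidHom ⟨g, hg⟩ • ρ ∈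
        ((a • A.normalizerMonoidHom ⟨g, hg⟩ • R : Sylow r A) : Subgroup A) :=
      Subgroup.smul_mem_pointwise_smul _ _ _ (Subgroup.smul_mem_pointwise_smul _ _ _ hρ)
    rw [ha] at this
    refine ⟨_, this, ?_⟩
    show (a : G) * (g * ρ * g⁻¹) * (a : G)⁻¹ = a * g * ρ * (a * g)⁻¹
    group
  have ord : ∀ σ ∈ R', σ ≠ 1 → ∃ m : ℕ, (σ ^ m) ^ r = 1 ∧ σ ^ m ≠ 1 := by
    intro σ hσ h1
    obtain ⟨k, hk⟩ := (IsPGroup.iff_orderOf.1 hRp) ⟨σ, hσ⟩
    rw [Subgroup.orderOf_mk] at hk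
    rcases k with _ | k
    · exact absurd (orderOf_eq_one_iff.1 hk) h1
    refine ⟨r ^ k, by rw [← pow_mul, ← pow_succ, ← hk, pow_orderOf_eq_one], fun h => ?_⟩
    have := orderOf_dvd_of_pow_eq_one h
    rw [hk, Nat.pow_dvd_pow_iff_le_right hr.1.one_lt] at this
    omega
  have C : ∀ (k : ℕ) (t : G), t ^ 2 ^ k = 1 → t ∈ Subgroup.normalizer (R' : Set G) →
      (∀ v ∈ L, t • v ∈ L) → ∀ σ ∈ R', (∀ ρ ∈ R', Commute σ ρ) → Commute t σ := by
    intro k
    induction k with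
    | zero => intro t ht _ _ σ _ _; simp at ht; simp [ht]
    | succ k ih =>
      intro t ht hn hL σ hσ hc
      rw [pow_succ', pow_mul] at ht
      have a1 := ih _ ht (Subgroup.pow_mem _ hn 2) (fun v hv => by
        rw [pow_two, mul_smul]; exact hL _ (hL v hv)) σ hσ hc
      have a2 : t * σ * t⁻¹ ∈ R' := (hn σ).1 hσ
      by_contra hne
      have a3 : σ⁻¹ * (t * σ * t⁻¹) ≠ 1 := fun h => hne (by
        rw [inv_mul_eq_one] at h
        rw [Commute, SemiconjBy]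
        conv_rhs => rw [h]
        group)
      obtain ⟨m, m1, m2⟩ := ord _ (R'.mul_mem (R'.inv_mem hσ) a2) a3
      refine F5 _ (hRA (R'.pow_mem (R'.mul_mem (R'.inv_mem hσ) a2) m)) m1 m2 t k ht hL ?_
      rw [← conj_pow, ← inv_pow]
      congr 1
      have b1 : t * (σ⁻¹ * (t * σ * t⁻¹)) * t⁻¹ = (t * σ * t⁻¹)⁻¹ * (t ^ 2 * σ * (t ^ 2)⁻¹) := by
        rw [pow_two]; group
      rw [b1, a1.eq, mul_inv_cancel_right, mul_inv_rev σ⁻¹, inv_inv]
  obtain ⟨ρ, ρ1, ρ2, ρ3, ρ4⟩ : ∃ ρ ∈ R', (∀ σ ∈ R', Commute ρ σ) ∧ ρ ^ r = 1 ∧ ρ ≠ 1 := by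
    haveI : Nontrivial R' := by
      rw [Subgroup.nontrivial_iff_ne_bot, hR', Ne, Subgroup.map_eq_bot_iff_of_injective _
        A.subtype_injective]
      exact R.ne_bot_of_dvd_card (hr.2.1.trans (S.dvd_card hs hs0 hx hy hyx))
    haveI := hRp.center_nontrivial
    obtain ⟨⟨⟨σ, hσ⟩, h1⟩, h2⟩ := exists_ne (1 : Subgroup.center R')
    obtain ⟨m, m1, m2⟩ := ord σ hσ (fun h => h2 (by subst h; rfl))
    refine ⟨σ ^ m, R'.pow_mem hσ m, fun τ hτ => Commute.pow_left ?_ m, m1, m2⟩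
    exact (congrArg Subtype.val (Subgroup.mem_center_iff.1 h1 ⟨τ, hτ⟩)).symm
  obtain ⟨k, m, hm, ho⟩ := Nat.exists_eq_two_pow_mul_odd (orderOf_pos s).ne'
  obtain ⟨j, rfl⟩ := hm
  set t := s ^ (2 * j + 1) with ht
  have t1 : t • x = y := by
    have : s ^ 2 ∈ stabilizer G x := by rw [mem_stabilizer_iff, pow_two, mul_smul, s1, s2]
    rw [ht, pow_succ', pow_mul, mul_smul, mem_stabilizer_iff.1 (Subgroup.pow_mem _ this j), s1]
  have t2 : t • y = x := by
    have : s ^ 2 ∈ stabilizer G y := by rw [mem_stabilizer_iff, pow_two, mul_smul, s2, s1]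
    rw [ht, pow_succ', pow_mul, mul_smul, mem_stabilizer_iff.1 (Subgroup.pow_mem _ this j), s2]
  have t3 : t ^ 2 ^ k = 1 := by rw [ht, ← pow_mul, mul_comm, ← ho, pow_orderOf_eq_one]
  have t4 : ∀ v ∈ L, t • v ∈ L := fun v hv => stab_mem (smul_pl_eq
    (by rw [t1]; exact right_mem_pl _ _) (by rw [t2]; exact left_mem_pl _ _)) hv
  have t5 := C k t t3 (Subgroup.pow_mem _ s3 _) t4 ρ ρ1 ρ2
  have t6 := F3 ρ (hRA ρ1) ρ3 ρ4 t k t3 t4 t5
  refine ⟨t, fun h => hyx (by rw [← t1, h, one_smul]), ?_⟩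
  have u1 : (dif ρ : V →+ V).range ≤ rel t ⊥ := by
    rintro _ ⟨v, rfl⟩
    have := fixL ρ (hRA ρ1) _ (mem_rel.1 (t6 v))
    rw [smul_sub, ← mul_smul, ← t5.eq, mul_smul] at this
    rw [mem_rel, dif_apply, smul_sub, AddSubgroup.mem_bot]
    linear_combination (norm := abel1) this
  have u2 := two_mul_card_le_of_lt u1 fun e => by
    have : y + x ∈ rel t (⊥ : AddSubgroup V) := by
      rw [mem_rel, smul_add, t1, t2, add_comm, sub_self]; exact zero_mem _
    rw [← e] at this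
    obtain ⟨v, hv⟩ := this
    rw [dif_apply] at hv
    have := F4 ρ (hRA ρ1) ρ3 ρ4 v (by rw [hv]; exact fixL ρ (hRA ρ1) _ (mem_pl.2 (by simp)))
    rw [this, sub_self] at hv
    exact hyx (add_eq_zero2.1 hv.symm)
  have u3 := (dif ρ : V →+ V).ker.index_mul_card
  rw [AddSubgroup.index_ker, show (dif ρ : V →+ V).ker = L from F1 ρ (hRA ρ1) ρ3 ρ4, cL] at u3
  omega

theorem exists_transvection_small (h : T2 G V) (h4 : 4 ≤ Nat.card V) (h8 : Nat.card V ∣ 8) :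
    ∃ t : G, t ≠ 1 ∧ Nat.card V ≤ 2 * Nat.card (rel t (⊥ : AddSubgroup V)) := by
  obtain ⟨x, hx, -⟩ := exists_third h4 0 0 0
  obtain ⟨y, hy, hyx, -⟩ := exists_third h4 0 x x
  obtain ⟨g, g1, g2⟩ := h x y y x hx hy hyx hy hx hyx.symm
  have : 2 ∣ Nat.card G := by
    refine Dvd.dvd.trans ?_ (orderOf_dvd_natCard g)
    by_contra hc
    obtain ⟨k, hk⟩ := Nat.not_even_iff_odd.1 (fun h => hc (even_iff_two_dvd.1 h))
    have : g ^ 2 ∈ stabilizer G x := by rw [mem_stabilizer_iff, pow_two, mul_smul, g1, g2]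
    have e : (g ^ orderOf g) • x = x := by rw [pow_orderOf_eq_one, one_smul]
    rw [hk, pow_succ', pow_mul, mul_smul, mem_stabilizer_iff.1 (Subgroup.pow_mem _ this k), g1] at e
    exact hyx e
  obtain ⟨t, ht⟩ := exists_prime_orderOf_dvd_card' 2 this
  refine ⟨t, by rintro rfl; simp at ht, ?_⟩
  have h1 := card_rel (g := t) (L := (⊥ : AddSubgroup V)) (fun v hv => by simp [AddSubgroup.mem_bot.1 hv])
    (fun v => by rw [← ht, pow_orderOf_eq_one]; simp [mem_rel])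
  have h2 := (AddSubgroup.card_addSubgroup_dvd_card (rel t (⊥ : AddSubgroup V))).trans h8
  rw [AddSubgroup.card_bot, one_mul] at h1
  have h3 := Nat.le_of_dvd (by norm_num) h2
  have h5 := Nat.le_of_dvd (by norm_num) h8
  generalize Nat.card (rel t (⊥ : AddSubgroup V)) = a at *
  generalize Nat.card V = N at *
  interval_cases a <;> interval_cases N <;> simp_all

omit [Finite G] in
theorem Pr.all_transvections (P : Pr G V V') (h : T2 G V) (h4 : 4 ≤ Nat.card V)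
    (hf : ∀ g : G, (∀ v : V, g • v = v) → g = 1) {t : G} (ht : t ≠ 1)
    (hc : Nat.card V ≤ 2 * Nat.card (rel t (⊥ : AddSubgroup V))) (a : V) (φ : V')
    (e : P.b a φ = 0) : ∃ g : G, ∀ v, g • v = v + P.b v φ • a := by
  by_cases ha : a = 0
  · exact ⟨1, by simp [ha]⟩
  by_cases hφ : φ = 0
  · exact ⟨1, by simp [hφ]⟩
  obtain ⟨v₀, hv₀⟩ : ∃ v₀ : V, v₀ ∉ rel t ⊥ := by
    by_contra! hc
    exact ht (hf t fun v => sub_eq_zero.1 (hc v))
  obtain ⟨ψ, h1, h2⟩ := P.exists_sep hv₀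
  have hψ : ψ ≠ 0 := by rintro rfl; simp at h2
  have e1 : rel t ⊥ = P.flip.perp (ln ψ) := by
    refine AddSubgroup.eq_of_le_of_card_ge (fun v hv => P.flip.mem_perp_ln.2 (h1 v hv)) ?_
    have := P.flip.card_mul_card_perp (ln ψ)
    rw [card_ln hψ] at this
    omega
  have e2 : ∀ v, t • v = v + P.b v ψ • (t • v₀ - v₀) := by
    intro v
    rcases z2 (P.b v ψ) with h | h
    · have : v ∈ rel t ⊥ := e1 ▸ P.flip.mem_perp_ln.2 h
      rw [h, zero_smul, add_zero]; exact sub_eq_zero.1 this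
    · have : v - v₀ ∈ rel t ⊥ := e1 ▸ P.flip.mem_perp_ln.2 (by simp [h, h2])
      have := sub_eq_zero.1 (AddSubgroup.mem_bot.1 (mem_rel.1 this))
      rw [smul_sub] at this
      rw [h, one_smul]
      linear_combination (norm := abel1) this
  have e3 : P.b (t • v₀ - v₀) ψ = 0 := by
    by_contra hc
    have := e2 (t • v₀ - v₀)
    rw [z2_ne.1 hc, one_smul, c2] at this
    exact smul_ne0 hv₀ this
  obtain ⟨g, g1, g2⟩ := P.tr_flag h h4 (x := t • v₀ - v₀) hv₀ ha hψ hφ (e3.trans e.symm)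
  refine ⟨g * t * g⁻¹, fun v => ?_⟩
  rw [mul_smul, mul_smul, e2, smul_add, smul_inv_smul, ← P.inv'', g2]
  rcases z2 (P.b v φ) with h | h <;> simp [h, g1]

end Cfsg.Agent.Proj.CK
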