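import Cfsg.Agent.Proj.CKPair

/-!
# Cameron–Kantor for `q = 2`: special lines
-/

set_option autoImplicit false

namespace Cfsg.Agent.Proj.CK

open MulAction Pointwise

/-- a doubly transitive linear group over `𝔽₂` with its dual -/
structure St (G V V' : Type*) [Group G] [AddCommGroup V] [AddCommGroup V'] [DistribMulAction G V]
    [DistribMulAction G V'] extends Pr G V V' where
  s : ℕ
  cV : Nat.card V = 2 ^ (s + 3)
  cV' : Nat.card V' = 2 ^ (s + 3)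
  t : T2 G V
  t' : T2 G V'

variable {G V V' : Type*} [Group G] [AddCommGroup V] [AddCommGroup V'] [DistribMulAction G V]
  [DistribMulAction G V']

theorem inv_closure {A : Subgroup G} {Y : Set V} (h : Inv A Y) :
    Inv A (AddSubgroup.closure Y : Set V) := by
  intro g hg v hv
  have : AddSubgroup.closure Y ≤ (AddSubgroup.closure Y).comap
      (DistribMulAction.toAddMonoidHom V g) :=
    (AddSubgroup.closure_le _).2 fun y hy => AddSubgroup.subset_closure (h g hg y hy)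
  exact this hv

theorem inv_top (A : Subgroup G) : Inv A ((⊤ : AddSubgroup V) : Set V) := fun _ _ _ _ => trivial

theorem inv_ln [Module (ZMod 2) V] {A : Subgroup G} {x : V} (h : ∀ g ∈ A, g • x = x) :
    Inv A (ln x : Set V) := by
  rintro g hg v (rfl | rfl)
  · exact Or.inl (smul_zero g)
  · exact Or.inr (h g hg)

theorem inv_pl [Module (ZMod 2) V] {A : Subgroup G} {x y : V} (h : ∀ g ∈ A, g • x ∈ pl x y)
    (h' : ∀ g ∈ A, g • y ∈ pl x y) : Inv A (pl x y : Set V) := by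
  intro g hg v hv
  rcases mem_pl.1 hv with rfl | rfl | rfl | rfl
  · simp
  · exact h g hg
  · exact h' g hg
  · rw [smul_add]; exact AddSubgroup.add_mem _ (h' g hg) (h g hg)

theorem left_mem_pl [Module (ZMod 2) V] (x y : V) : x ∈ pl x y := mem_pl.2 (Or.inr (Or.inl rfl))

theorem right_mem_pl [Module (ZMod 2) V] (x y : V) : y ∈ pl x y :=
  mem_pl.2 (Or.inr (Or.inr (Or.inl rfl)))

/-- the overlap lemma -/
theorem Pr.overlap (P : Pr G V V') {A : Subgroup G} {T : AddSubgroup V'} (hT : Inv A (T : Set V'))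
    {y : V} (h : Tr (A ⊓ stabilizer G y) {ψ | ψ ∈ T ∧ P.b y ψ = 1}) :
    Tr A {ψ | ψ ∈ T ∧ ∃ y' ∈ orb A y, P.b y' ψ = 1} := by
  have key : ∀ y' ∈ orb A y, Tr A {ψ | ψ ∈ T ∧ P.b y' ψ = 1} := by
    rintro _ ⟨g, hg, rfl⟩ ψ hψ ψ' hψ'
    obtain ⟨k, hk, e⟩ := h (g⁻¹ • ψ) ⟨hT _ (A.inv_mem hg) _ hψ.1, by rw [← P.inv']; exact hψ.2⟩
      (g⁻¹ • ψ') ⟨hT _ (A.inv_mem hg) _ hψ'.1, by rw [← P.inv']; exact hψ'.2⟩
    exact ⟨g * k * g⁻¹, A.mul_mem (A.mul_mem hg hk.1) (A.inv_mem hg), by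
      rw [mul_smul, mul_smul, e, smul_inv_smul]⟩
  rintro ψ₁ ⟨h1, y₁, a1, b1⟩ ψ₂ ⟨h2, y₂, a2, b2⟩
  rcases z2 (P.b y₂ ψ₁) with c | c
  · rcases z2 (P.b y₁ ψ₂) with d | d
    · exact orb_trans (key y₁ a1 ψ₁ ⟨h1, b1⟩ (ψ₁ + ψ₂) ⟨T.add_mem h1 h2, by simp [b1, d]⟩)
        (key y₂ a2 (ψ₁ + ψ₂) ⟨T.add_mem h1 h2, by simp [b2, c]⟩ ψ₂ ⟨h2, b2⟩)
    · exact key y₁ a1 ψ₁ ⟨h1, b1⟩ ψ₂ ⟨h2, d⟩
  · exact key y₂ a2 ψ₁ ⟨h1, c⟩ ψ₂ ⟨h2, b2⟩

namespace St

/-- the dual set-up -/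
def flip (S : St G V V') : St G V' V where
  toPr := S.toPr.flip
  s := S.s
  cV := S.cV'
  cV' := S.cV
  t := S.t'
  t' := S.t

variable (S : St G V V')

@[simp] theorem flip_b (φ : V') (v : V) : S.flip.b φ v = S.b v φ := rfl

@[simp] theorem flip_s : S.flip.s = S.s := rfl

/-- special triples -/
structure Sp (x y : V) (φ : V') : Prop where
  hx : x ≠ 0
  hφ : φ ≠ 0
  xφ : S.b x φ = 0
  yφ : S.b y φ = 0
  hy : y ≠ 0
  yx : y ≠ x
  nd : ¬ 4 ∣ (orb (⊤ : Subgroup G) (x, y, φ)).ncard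

variable {S} in
theorem Sp.smul {x y : V} {φ : V'} (h : S.Sp x y φ) (g : G) : S.Sp (g • x) (g • y) (g • φ) :=
  ⟨smul_ne0 h.hx, smul_ne0 h.hφ, by rw [S.inv, h.xφ], by rw [S.inv, h.yφ], smul_ne0 h.hy,
    fun e => h.yx (smul_left_cancel g e), by
      rw [orb_eq_of_mem (A := ⊤) (z := (x, y, φ)) (w := (g • x, g • y, g • φ))
        ⟨g, trivial, rfl⟩]; exact h.nd⟩

variable [Finite V] [Finite V'] [Module (ZMod 2) V] [Module (ZMod 2) V']

include S in
theorem four_le : 4 ≤ Nat.card V := by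
  rw [S.cV, pow_add]; have : 0 < 2 ^ S.s := by positivity
  omega

theorem card_perp_mul (T : AddSubgroup V) : Nat.card T * Nat.card (S.perp T) = 2 ^ (S.s + 3) := by
  rw [S.card_mul_card_perp, S.cV']

theorem card_perp_ln {x : V} (hx : x ≠ 0) : Nat.card (S.perp (ln x)) = 2 ^ (S.s + 2) := by
  have := S.card_perp_mul (ln x)
  rw [card_ln hx, pow_succ] at this
  omega

theorem card_perp_pl {x y : V} (hx : x ≠ 0) (hy : y ≠ 0) (hyx : y ≠ x) :
    Nat.card (S.perp (pl x y)) = 2 ^ (S.s + 1) := by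
  have := S.card_perp_mul (pl x y)
  rw [card_pl hx hy hyx, pow_succ, pow_succ] at this
  omega

theorem flag {x x' : V} (hx : x ≠ 0) (hx' : x' ≠ 0) {φ φ' : V'} (hφ : φ ≠ 0) (hφ' : φ' ≠ 0)
    (e : S.b x φ = S.b x' φ') : ∃ g : G, g • x = x' ∧ g • φ = φ' :=
  S.tr_flag S.t S.four_le hx hx' hφ hφ' e

theorem mem_off {x : V} {ψ : V'} :
    ψ ∈ ((⊤ : AddSubgroup V') : Set V') \ S.perp (ln x) ↔ S.b x ψ = 1 := by
  simp only [Set.mem_diff, SetLike.mem_coe, AddSubgroup.mem_top, true_and, S.mem_perp_ln]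
  exact z2_ne

theorem ncard_off {x : V} (hx : x ≠ 0) :
    (((⊤ : AddSubgroup V') : Set V') \ S.perp (ln x)).ncard = 2 ^ (S.s + 2) := by
  rw [ncard_diff le_top, S.card_perp_ln hx, AddSubgroup.card_top, S.cV', pow_succ]; omega

theorem tr_off {x : V} (hx : x ≠ 0) :
    Tr (stabilizer G x) (((⊤ : AddSubgroup V') : Set V') \ S.perp (ln x)) := by
  intro ψ hψ ψ' hψ'
  rw [mem_off] at hψ hψ'
  exact S.flag hx hx (by rintro rfl; simp at hψ) (by rintro rfl; simp at hψ') (hψ.trans hψ'.symm)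

theorem inv_off {x : V} {A : Subgroup G} (h : ∀ g ∈ A, g • x = x) :
    Inv A (((⊤ : AddSubgroup V') : Set V') \ S.perp (ln x)) :=
  (inv_top A).diff (S.inv_perp (inv_ln h))

variable [Finite G]

theorem card_G {x : V} (hx : x ≠ 0) :
    Nat.card G = (2 ^ (S.s + 3) - 1) * Nat.card (stabilizer G x) := by
  have h := ncard_orb_mul (⊤ : Subgroup G) x
  have : orb (⊤ : Subgroup G) x = ((⊤ : AddSubgroup V) : Set V) \ (⊥ : AddSubgroup V) := by
    ext v
    constructor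
    · rintro ⟨g, -, rfl⟩; exact ⟨trivial, smul_ne0 hx⟩
    · intro hv
      obtain ⟨g, hg⟩ := S.t.tr S.four_le hx hv.2
      exact ⟨g, trivial, hg⟩
  rw [this, ncard_diff le_top, top_inf_eq, AddSubgroup.card_top, AddSubgroup.card_bot, S.cV,
    Subgroup.card_top] at h
  exact h.symm

theorem card_pair {x y : V} (hx : x ≠ 0) (hy : y ≠ 0) (hyx : y ≠ x) :
    Nat.card (stabilizer G x) =
      (2 ^ (S.s + 3) - 2) * Nat.card ↥(stabilizer G x ⊓ stabilizer G y) := by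
  have h := ncard_orb_mul (stabilizer G x) y
  have : orb (stabilizer G x) y = ((⊤ : AddSubgroup V) : Set V) \ ln x := by
    ext v
    constructor
    · rintro ⟨g, hg, rfl⟩
      refine ⟨trivial, ?_⟩
      rintro (h | h)
      · exact smul_ne0 hy h
      · exact hyx (smul_left_cancel g (h.trans (mem_stabilizer_iff.1 hg).symm))
    · intro hv
      have hv' := hv.2
      simp only [SetLike.mem_coe, mem_ln, not_or] at hv'
      exact S.t x y x v hx hy hyx hx hv'.1 hv'.2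
  rw [this, ncard_diff le_top, card_ln hx, AddSubgroup.card_top, S.cV] at h
  exact h.symm

theorem card_flag {x : V} {φ : V'} (hx : x ≠ 0) (hφ : φ ≠ 0) (e : S.b x φ = 0) :
    Nat.card (stabilizer G x) =
      (2 ^ (S.s + 2) - 1) * Nat.card ↥(stabilizer G x ⊓ stabilizer G φ) := by
  have h := ncard_orb_mul (stabilizer G x) φ
  have : orb (stabilizer G x) φ = (S.perp (ln x) : Set V') \ (⊥ : AddSubgroup V') := by
    ext v
    constructor
    · rintro ⟨g, hg, rfl⟩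
      exact ⟨S.inv_perp (inv_ln fun _ h => h) g hg _ (S.mem_perp_ln.2 e), smul_ne0 hφ⟩
    · intro hv
      exact S.flag hx hx hφ hv.2 (e.trans (S.mem_perp_ln.1 hv.1).symm)
  rw [this, ncard_diff bot_le, S.card_perp_ln hx, AddSubgroup.card_bot] at h
  exact h.symm

omit [Finite V] [Finite V'] [Module (ZMod 2) V] [Module (ZMod 2) V'] [Finite G] in
theorem odd_aux (k : ℕ) : Odd (2 ^ (k + 1) - 1) :=
  Nat.Even.sub_odd (Nat.one_le_two_pow) (by rw [pow_succ]; exact even_two.mul_left _) odd_one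

omit [Finite V] [Finite V'] [Module (ZMod 2) V] [Module (ZMod 2) V'] [Finite G] in
theorem sub_two_aux (k : ℕ) : 2 ^ (k + 1) - 2 = 2 * (2 ^ k - 1) := by
  rw [pow_succ, Nat.mul_sub, mul_comm]

theorem tr_off_flag {x : V} {φ : V'} (hx : x ≠ 0) (hφ : φ ≠ 0) (e : S.b x φ = 0) :
    Tr (stabilizer G x ⊓ stabilizer G φ) (((⊤ : AddSubgroup V') : Set V') \ S.perp (ln x)) :=
  (S.tr_off hx).of_odd (S.inv_off fun _ h => h) inf_le_left (S.card_flag hx hφ e) (odd_aux _)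
    (S.ncard_off hx)

theorem ncard_a3 {x y : V} (hx : x ≠ 0) (hy : y ≠ 0) (hyx : y ≠ x) :
    ((S.perp (ln x) : Set V') \ S.perp (pl x y)).ncard = 2 ^ (S.s + 1) := by
  rw [ncard_diff (S.perp_anti (show ln x ≤ pl x y from le_sup_left)), S.card_perp_ln hx,
    S.card_perp_pl hx hy hyx, pow_succ]
  omega

omit [Finite G] in
theorem mem_a3 {x y : V} {ψ : V'} : ψ ∈ (S.perp (ln x) : Set V') \ S.perp (pl x y) ↔
    S.b x ψ = 0 ∧ S.b y ψ = 1 := by
  simp only [Set.mem_diff, SetLike.mem_coe, S.mem_perp_ln, S.mem_perp_pl, ← z2_ne]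
  tauto

omit [Finite G] in
theorem inv_a3 {x y : V} : Inv (stabilizer G x ⊓ stabilizer G y)
    ((S.perp (ln x) : Set V') \ S.perp (pl x y)) := by
  intro g hg ψ hψ
  rw [mem_a3] at hψ ⊢
  constructor
  · rw [← mem_stabilizer_iff.1 hg.1, S.inv, hψ.1]
  · rw [← mem_stabilizer_iff.1 hg.2, S.inv, hψ.2]

theorem a3 {x y : V} (hx : x ≠ 0) (hy : y ≠ 0) (hyx : y ≠ x) :
    Tr (stabilizer G x ⊓ stabilizer G y) ((S.perp (ln x) : Set V') \ S.perp (pl x y)) := by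
  refine Tr.of_ncard_le (Set.toFinite _) S.inv_a3 fun ψ hψ => ?_
  have h := ncard_orb_dvd inf_le_left (S.card_pair hy hx hyx.symm) ψ
  rw [(S.tr_off hy).orb_eq (S.inv_off fun _ h => h) (S.mem_off.2 (S.mem_a3.1 hψ).2),
    S.ncard_off hy, inf_comm] at h
  rw [S.ncard_a3 hx hy hyx]
  have e : 2 ^ (S.s + 3) - 2 = 2 * (2 ^ (S.s + 1 + 1) - 1) := sub_two_aux _
  rw [e, mul_assoc, pow_succ' _ (S.s + 1), Nat.mul_dvd_mul_iff_left two_pos, ← pow_succ'] at h
  exact Nat.le_of_dvd (ncard_orb_pos _ _)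
    ((Nat.Coprime.pow_left _ (Nat.coprime_two_left.2 (odd_aux _))).dvd_of_dvd_mul_left h)

theorem a3' {x y : V} (hx : x ≠ 0) (hy : y ≠ 0) (hyx : y ≠ x) {ψ ψ' : V'}
    (e1 : S.b x ψ = S.b x ψ') (e2 : S.b y ψ = S.b y ψ') (h : ψ ∉ S.perp (pl x y)) :
    ∃ g ∈ stabilizer G x ⊓ stabilizer G y, g • ψ = ψ' := by
  rw [S.mem_perp_pl] at h
  rcases z2 (S.b x ψ) with a | a <;> rcases z2 (S.b y ψ) with c | c
  · exact absurd ⟨a, c⟩ h
  · exact S.a3 hx hy hyx ψ (S.mem_a3.2 ⟨a, c⟩) ψ' (S.mem_a3.2 ⟨e1 ▸ a, e2 ▸ c⟩)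
  · rw [inf_comm]
    exact S.a3 hy hx hyx.symm ψ (S.mem_a3.2 ⟨c, a⟩) ψ' (S.mem_a3.2 ⟨e2 ▸ c, e1 ▸ a⟩)
  · obtain ⟨g, hg, e⟩ := S.a3 (x := y + x) (y := y) (fun h => hyx (add_eq_zero2.1 h)) hy
      (by simpa using hx) ψ (S.mem_a3.2 ⟨by simp [a, c]; rfl, c⟩) ψ'
      (S.mem_a3.2 ⟨by simp [← e1, ← e2, a, c]; rfl, e2 ▸ c⟩)
    refine ⟨g, ⟨?_, hg.2⟩, e⟩
    have h1 : g • (y + x) = y + x := hg.1
    have h2 : g • y = y := hg.2
    rw [smul_add, h2] at h1
    exact add_left_cancel h1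

theorem cone1 {x : V} {φ : V'} (hx : x ≠ 0) (hφ : φ ≠ 0) (e : S.b x φ = 0) {z : V}
    (hz : z ≠ 0) (hzx : z ≠ x) : ∃ g ∈ stabilizer G x ⊓ stabilizer G φ, g • z = z + x := by
  obtain ⟨ε, a1, a2⟩ := S.exists_sep (S := ln x) (z := z) (by rintro (h | h); exacts [hz h, hzx h])
  rw [S.mem_perp_ln] at a1
  refine S.fourier _ z (z + x) fun ψ => ?_
  rcases z2 (S.b x ψ) with h | h
  · left
    intro ψ' hψ'
    have := (S.inv_perp (A := stabilizer G x ⊓ stabilizer G φ)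
      (inv_ln fun _ h => h.1)).orb_subset (S.mem_perp_ln.2 h) hψ'
    simp [S.mem_perp_ln.1 this]
  · right
    have e' := (S.tr_off_flag hx hφ e).orb_eq (S.inv_off fun _ h => h.1) (S.mem_off.2 h)
    refine ⟨_, subset_rfl, by simp, ⟨ε, a2, ?_⟩, ⟨ε, by simp [a1, a2], ?_⟩⟩ <;>
    · rw [e']; intro ψ' hψ'; rw [S.mem_off] at hψ' ⊢; simp [hψ', a1]

theorem swap {x y : V} {φ : V'} (hx : x ≠ 0) (hy : y ≠ 0) (hφ : φ ≠ 0) (e : S.b x φ = 0)
    (e' : S.b y φ = 0) : ∃ g : G, g • φ = φ ∧ g • x = y ∧ g • y = x := by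
  by_cases hxy : x = y
  · exact ⟨1, by simp, by simp [hxy], by simp [hxy]⟩
  obtain ⟨g, hg, h⟩ := S.cone1 (x := x + y) (fun h => hxy (add_eq_zero2.1 h)) hφ
    (by simp [e, e']) hx (by simpa using hy)
  have h1 : g • (x + y) = x + y := hg.1
  have h2 : g • x = y := by rw [h, ← add_assoc, c2, zero_add]
  refine ⟨g, hg.2, h2, ?_⟩
  rw [smul_add, h2, add_comm] at h1
  exact add_right_cancel h1

include S in
theorem cone2 {x u : V} (hx : x ≠ 0) (hu : u ≠ 0) (hux : u ≠ x) {z l : V} (hz : z ∉ pl x u)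
    (hl : l ∈ pl x u) : ∃ g ∈ stabilizer G x ⊓ stabilizer G u, g • z = z + l := by
  obtain ⟨ε, a1, a2⟩ := S.exists_sep hz
  have hi : Inv (stabilizer G x ⊓ stabilizer G u) (pl x u : Set V) :=
    inv_pl (fun g hg => by rw [mem_stabilizer_iff.1 hg.1]; exact left_mem_pl _ _)
      (fun g hg => by rw [mem_stabilizer_iff.1 hg.2]; exact right_mem_pl _ _)
  refine S.fourier _ z (z + l) fun ψ => ?_
  by_cases h : ψ ∈ S.perp (pl x u)
  · left
    intro ψ' hψ'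
    have := (S.inv_perp hi).orb_subset h hψ'
    simp [this l hl]
  · right
    have key : ∀ ψ' ∈ orb (stabilizer G x ⊓ stabilizer G u) ψ,
        ψ' + ε ∈ orb (stabilizer G x ⊓ stabilizer G u) ψ := by
      rintro _ ⟨g, hg, rfl⟩
      have b1 := S.mem_perp_pl.1 a1
      refine S.a3' hx hu hux ?_ ?_ h
      · rw [map_add, b1.1, add_zero]; conv_rhs => rw [← mem_stabilizer_iff.1 hg.1, S.inv]
      · rw [map_add, b1.2, add_zero]; conv_rhs => rw [← mem_stabilizer_iff.1 hg.2, S.inv]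
    exact ⟨_, subset_rfl, by simp, ⟨ε, a2, key⟩, ⟨ε, by simp [a1 l hl, a2], key⟩⟩

variable {S} in
theorem Sp.symm {x y : V} {φ : V'} (h : S.Sp x y φ) : S.Sp y x φ := by
  obtain ⟨g, h1, h2, h3⟩ := S.swap h.hx h.hy h.hφ h.xφ h.yφ
  simpa [h1, h2, h3] using h.smul g

variable {S} in
theorem Sp.add {x y : V} {φ : V'} (h : S.Sp x y φ) : S.Sp x (y + x) φ := by
  obtain ⟨g, h1, h2⟩ := S.cone1 h.hx h.hφ h.xφ h.hy h.yx
  simpa [mem_stabilizer_iff.1 h1.1, mem_stabilizer_iff.1 h1.2, h2] using h.smul g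

theorem tau {x y : V} {φ : V'} (hx : x ≠ 0) (hφ : φ ≠ 0) (e : S.b x φ = 0) (hy : y ≠ 0)
    (hyx : y ≠ x) :
    (orb (stabilizer G x ⊓ stabilizer G φ) y).ncard =
      2 * (orb (stabilizer G x ⊓ stabilizer G y) φ).ncard ∧
    (orb (⊤ : Subgroup G) (x, y, φ)).ncard = (2 ^ (S.s + 3) - 1) * (2 ^ (S.s + 2) - 1) *
      (orb (stabilizer G x ⊓ stabilizer G φ) y).ncard := by
  have h1 := S.card_G hx
  have h2 := S.card_pair hx hy hyx
  have h3 := S.card_flag hx hφ e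
  have h4 := ncard_orb_mul (stabilizer G x ⊓ stabilizer G φ) y
  have h5 := ncard_orb_mul (stabilizer G x ⊓ stabilizer G y) φ
  have h6 := ncard_orb_mul (⊤ : Subgroup G) (x, y, φ)
  have e1 : (⊤ : Subgroup G) ⊓ stabilizer G (x, y, φ) =
      stabilizer G x ⊓ stabilizer G φ ⊓ stabilizer G y := by
    ext g; simp; tauto
  rw [e1, Subgroup.card_top] at h6
  rw [inf_right_comm] at h5
  have hp : 0 < Nat.card ↥(stabilizer G x ⊓ stabilizer G φ ⊓ stabilizer G y) := Nat.card_pos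
  have hq : 0 < 2 ^ (S.s + 2) - 1 := (odd_aux (S.s + 1)).pos
  constructor
  · apply Nat.eq_of_mul_eq_mul_right hp
    apply Nat.eq_of_mul_eq_mul_left hq
    rw [h4, ← h3, h2, ← h5]
    have e : 2 ^ (S.s + 3) - 2 = 2 * (2 ^ (S.s + 2) - 1) := sub_two_aux _
    rw [e]; ring
  · apply Nat.eq_of_mul_eq_mul_right hp
    rw [h6, h1, h3, ← h4]; ring

variable {S} in
theorem Sp.odd {x y : V} {φ : V'} (h : S.Sp x y φ) :
    Odd (orb (stabilizer G x ⊓ stabilizer G y) φ).ncard := by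
  obtain ⟨h1, h2⟩ := S.tau h.hx h.hφ h.xφ h.hy h.yx
  by_contra hc
  obtain ⟨k, hk⟩ := Nat.not_odd_iff_even.1 hc
  apply h.nd
  rw [h2, h1, hk]
  exact Dvd.dvd.mul_left ⟨k, by ring⟩ _

theorem exists_sp {x : V} {φ : V'} (hx : x ≠ 0) (hφ : φ ≠ 0) (e : S.b x φ = 0) :
    ∃ y, S.Sp x y φ := by
  by_contra! hc
  have hle : ln x ≤ S.flip.perp (ln φ) := by
    rintro v (rfl | rfl)
    · exact zero_mem _
    · exact S.flip.mem_perp_ln.2 e
  have := dvd_ncard_of_forall_orb (A := stabilizer G x ⊓ stabilizer G φ) (k := 4) _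
    ((S.flip.perp (ln φ) : Set V) \ ln x) (Set.toFinite _) rfl
    ((S.flip.inv_perp (A := stabilizer G x ⊓ stabilizer G φ) (inv_ln fun _ h => h.2)).diff
      (inv_ln fun _ h => h.1)) fun y hy => by
      have h1 := hy.2
      simp only [SetLike.mem_coe, mem_ln, not_or] at h1
      by_contra h4
      refine hc y ⟨hx, hφ, e, S.flip.mem_perp_ln.1 hy.1, h1.1, h1.2, fun h => h4 ?_⟩
      rw [(S.tau hx hφ e h1.1 h1.2).2] at h
      exact (Nat.Coprime.pow_left 2 (Nat.coprime_two_left.2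
        ((odd_aux _).mul (odd_aux _)))).dvd_of_dvd_mul_left h
  rw [ncard_diff hle, S.flip.card_perp_ln hφ, card_ln hx, pow_add] at this
  have : 0 < 2 ^ S.flip.s := by positivity
  omega

omit [Finite V] [Finite V'] [Module (ZMod 2) V] [Module (ZMod 2) V'] [Finite G] in
theorem arith {τ γ w κ : ℕ} (hw : 0 < w) (hτ : 0 < τ) (h : τ * (w * γ) = (w * γ - w) * κ) :
    γ - 1 ≤ τ := by
  rcases γ with _ | γ
  · simp
  have h1 : τ * (γ + 1) = γ * κ := by
    apply Nat.eq_of_mul_eq_mul_left hw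
    rw [show w * (γ + 1) - w = w * γ by rw [mul_add]; omega] at h
    linarith
  have h2 : γ ∣ τ * (γ + 1) := ⟨κ, h1⟩
  exact Nat.le_of_dvd hτ ((by simp : Nat.Coprime γ (γ + 1)).dvd_of_dvd_mul_right h2)

variable {S} in
theorem Sp.struct {x y : V} {φ : V'} (h : S.Sp x y φ) : ∃ W : AddSubgroup V, x ∈ W ∧
    orb (stabilizer G x ⊓ stabilizer G φ) y = (W : Set V) \ ln x ∧
    Tr (stabilizer G x ⊓ stabilizer G φ) ((S.perp (ln x) : Set V') \ S.perp W) := by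
  set F := stabilizer G x ⊓ stabilizer G φ with hF
  set W := ln x ⊔ AddSubgroup.closure (orb F y) with hW
  have hxW : ln x ≤ W := le_sup_left
  have hA : Tr (F ⊓ stabilizer G y) ((S.perp (ln x) : Set V') \ S.perp (pl x y)) := by
    refine (S.a3 h.hx h.hy h.yx).of_odd S.inv_a3 (inf_le_inf_right _ inf_le_left) ?_ h.odd
      (S.ncard_a3 h.hx h.hy h.yx)
    rw [← ncard_orb_mul _ φ, inf_right_comm]
  have hiF : Inv F (S.perp (ln x) : Set V') := S.inv_perp (inv_ln fun _ h => h.1)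
  have hT : Tr F ((S.perp (ln x) : Set V') \ S.perp W) := by
    have := S.overlap hiF (y := y) (by
      convert hA using 1
      ext ψ; rw [S.mem_a3, Set.mem_setOf_eq, S.mem_perp_ln])
    convert this using 1
    ext ψ
    simp only [hW, Set.mem_diff, SetLike.mem_coe, S.perp_sup, AddSubgroup.mem_inf, S.perp_closure,
      Set.mem_setOf_eq, ← z2_ne]
    constructor
    · rintro ⟨h1, h2⟩
      refine ⟨h1, ?_⟩
      by_contra! hc
      exact h2 ⟨h1, hc⟩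
    · rintro ⟨h1, y', h2, h3⟩
      exact ⟨h1, fun hc => h3 (hc.2 y' h2)⟩
  refine ⟨W, hxW (Or.inr rfl), ?_, hT⟩
  have hsub : orb F y ⊆ (W : Set V) \ ln x := by
    intro v hv
    refine ⟨(le_sup_right : _ ≤ W) (AddSubgroup.subset_closure hv), ?_⟩
    obtain ⟨g, hg, rfl⟩ := hv
    rintro (h' | h')
    · exact smul_ne0 h.hy h'
    · exact h.yx (smul_left_cancel g (h'.trans (mem_stabilizer_iff.1 hg.1).symm))
  refine Set.eq_of_subset_of_ncard_le hsub ?_ (Set.toFinite _)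
  obtain ⟨ψ, hψ⟩ : ((S.perp (ln x) : Set V') \ S.perp (pl x y)).Nonempty := by
    rw [← Set.ncard_pos, S.ncard_a3 h.hx h.hy h.yx]; positivity
  have hψ' : ψ ∈ (S.perp (ln x) : Set V') \ S.perp W :=
    ⟨hψ.1, fun hc => by
      have := hc y (hsub (mem_orb_self _ _)).1
      rw [(S.mem_a3.1 hψ).2] at this
      exact one_ne_zero this⟩
  have hiW : Inv F (W : Set V) := by
    intro g hg v hv
    obtain ⟨a, ha, c, hc, rfl⟩ := AddSubgroup.mem_sup.1 hv
    rw [smul_add]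
    exact AddSubgroup.add_mem_sup (inv_ln (A := F) (fun _ h => h.1) g hg a ha)
      (inv_closure (inv_orb F y) g hg c hc)
  have d := orb_dc F y ψ
  rw [hA.orb_eq (S.inv_a3.mono (inf_le_inf_right _ inf_le_left)) hψ, S.ncard_a3 h.hx h.hy h.yx,
    hT.orb_eq (hiF.diff (S.inv_perp hiW)) hψ', ncard_diff (S.perp_anti hxW),
    S.card_perp_ln h.hx] at d
  obtain ⟨γ, hγ⟩ := AddSubgroup.card_dvd_of_le hxW
  rw [card_ln h.hx] at hγ
  have c1 := S.card_perp_mul W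
  have t1 := (S.tau h.hx h.hφ h.xφ h.hy h.yx).1
  rw [← hF] at t1
  have c3 : 2 ^ (S.s + 2) = Nat.card (S.perp W) * γ := by
    rw [hγ, pow_succ] at c1; linarith
  have := arith (τ := (orb (stabilizer G x ⊓ stabilizer G y) φ).ncard) (γ := γ)
    (Nat.card_pos (α := S.perp W)) (ncard_orb_pos _ _) (by
      rw [← c3, ← d, t1, pow_succ _ (S.s + 1)]; ring)
  rw [ncard_diff hxW, card_ln h.hx, hγ, t1]
  omega

end St

end Cfsg.Agent.Proj.CK
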