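import Cfsg.Agent.Proj.CKFour

/-!
# Cameron–Kantor for `q = 2`: no non-singular alternating trilinear forms in dimension `> 3`
-/

set_option autoImplicit false

namespace Cfsg.Agent.Proj.CK

open MulAction Pointwise MvPolynomial Matrix

theorem tri_key {ι : Type*} [Fintype ι] [DecidableEq ι]
    (a : ι → ι → ι → ZMod 2) (s12 : ∀ i j k, a i j k = a j i k) (s23 : ∀ i j k, a i j k = a i k j)
    (d : ∀ i k, a i i k = 0) {R : Type*} [CommRing R] [Algebra (ZMod 2) R] (u : ι → R) (i : ι) :
    ∑ l, (∑ k, u k * algebraMap (ZMod 2) R (a k i l)) * u l = 0 := by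
  simp only [Finset.sum_mul]
  rw [← Fintype.sum_prod_type']
  refine Finset.sum_involution (fun p _ => p.swap) ?_ ?_ (fun _ _ => Finset.mem_univ _)
    (fun _ _ => rfl)
  · rintro ⟨l, k⟩ -
    have h1 : a l i k = a k i l := by rw [s12, s23, s12]
    have h2 : algebraMap (ZMod 2) R (a k i l) + algebraMap (ZMod 2) R (a k i l) = 0 := by
      rw [← map_add, CharTwo.add_self_eq_zero, map_zero]
    simp only [Prod.fst_swap, Prod.snd_swap, h1]
    linear_combination u k * u l * h2
  · rintro ⟨l, k⟩ - h e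
    have : k = l := congrArg Prod.fst e
    subst this
    apply h
    simp only
    rw [s23, d, map_zero]; simp

theorem no_trilinear_coord {ι : Type*} [Fintype ι] [DecidableEq ι] (hn : 3 < Fintype.card ι)
    (a : ι → ι → ι → ZMod 2) (s12 : ∀ i j k, a i j k = a j i k) (s23 : ∀ i j k, a i j k = a i k j)
    (d : ∀ i k, a i i k = 0)
    (nd : ∀ c v : ι → ZMod 2, (∀ j, ∑ l, (∑ k, c k * a k j l) * v l = 0) →
      c = 0 ∨ v = 0 ∨ v = c) : False := by
  set M : Matrix ι ι (MvPolynomial ι (ZMod 2)) := Matrix.of fun i j => ∑ k, X k * C (a k i j)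
    with hM
  have h1 : M *ᵥ X = 0 := by
    ext1 i
    exact tri_key a s12 s23 d X i
  obtain ⟨i₀, i₁, hi⟩ := Fintype.exists_pair_of_one_lt_card (α := ι) (by omega)
  have h2 : M.det = 0 := exists_mulVec_eq_zero_iff.1 ⟨X, fun h => X_ne_zero i₀ (congrFun h i₀), h1⟩
  have h3 : ∀ (c : ι → ZMod 2) (i : ι), c i = 1 → eval c (M.adjugate i i) ≠ 0 := by
    intro c i hc
    rw [adjugate_apply, RingHom.map_det, Ne, ← exists_mulVec_eq_zero_iff]
    rintro ⟨v, v0, hv⟩
    have e1 : v i = 0 := by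
      have := congrFun hv i
      simpa [mulVec, dotProduct, Pi.single_apply, apply_ite] using this
    have e2 : ∀ j, j ≠ i → ∑ l, (∑ k, c k * a k j l) * v l = 0 := by
      intro j hj
      have := congrFun hv j
      simpa [mulVec, dotProduct, updateRow_ne hj, hM] using this
    have e3 : ∑ j, c j * ∑ l, (∑ k, c k * a k j l) * v l = 0 := by
      simp only [Finset.mul_sum]
      rw [Finset.sum_comm]
      refine Finset.sum_eq_zero fun l _ => ?_
      have := tri_key a s12 s23 d (R := ZMod 2) c l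
      simp only [Algebra.algebraMap_self, RingHom.id_apply] at this
      rw [← zero_mul (v l), ← this, Finset.sum_mul]
      refine Finset.sum_congr rfl fun j _ => ?_
      simp only [s23 _ l j]; ring
    rw [Finset.sum_eq_single i (fun j _ hj => by rw [e2 j hj, mul_zero]) (by simp), hc, one_mul] at e3
    rcases nd c v (fun j => by by_cases hj : j = i; exacts [hj ▸ e3, e2 j hj]) with h | h | h
    · rw [h] at hc; exact zero_ne_one hc
    · exact v0 h
    · rw [h, hc] at e1; exact one_ne_zero e1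
  have h4 : M.adjugate i₀ i₀ ≠ 0 := fun h => h3 (fun _ => 1) i₀ rfl (by rw [h, map_zero])
  have h5 : ∀ i j, M.adjugate i j * X i₀ = M.adjugate i₀ j * X i := by
    intro i j
    have a1 : M *ᵥ (fun i => M.adjugate i j) = 0 := by
      ext1 k
      have := congrFun (congrFun (mul_adjugate M) k) j
      rw [h2, zero_smul] at this
      exact this
    set w : ι → MvPolynomial ι (ZMod 2) :=
      (X i₀ : MvPolynomial ι (ZMod 2)) • (fun i => M.adjugate i j) - M.adjugate i₀ j • X with hw
    have a2 : M *ᵥ w = 0 := by rw [hw, mulVec_sub, mulVec_smul, mulVec_smul, a1, h1]; simp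
    have a3 : w i₀ = 0 := by simp [hw, mul_comm]
    have a4 : (M.updateRow i₀ (Pi.single i₀ 1)) *ᵥ w = 0 := by
      ext1 k
      by_cases hk : k = i₀
      · subst hk
        simp [mulVec, a3]
      · have := congrFun a2 k
        simpa [mulVec, updateRow_ne hk] using this
    have := congrFun (eq_zero_of_mulVec_eq_zero (by rwa [← adjugate_apply]) a4) i
    simp only [hw, Pi.sub_apply, Pi.smul_apply, smul_eq_mul, Pi.zero_apply] at this
    linear_combination this
  have h6 : ∀ i j, M.adjugate i j = M.adjugate j i := by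
    have : Mᵀ = M := by
      ext1 i j
      simp only [hM, transpose_apply, of_apply, s23 _ j i]
    intro i j
    rw [← transpose_apply M.adjugate j i, adjugate_transpose, this]
  have h7 : ∀ i, M.adjugate i i * X i₀ ^ 2 = M.adjugate i₀ i₀ * X i ^ 2 := by
    intro i
    have a1 := h5 i i
    have a2 := h5 i i₀
    rw [h6 i₀ i] at a1
    linear_combination X i₀ * a1 + X i * a2
  obtain ⟨c, hc⟩ : (X i₀ : MvPolynomial ι (ZMod 2)) ^ 2 ∣ M.adjugate i₀ i₀ := by
    refine X_prime.pow_dvd_of_dvd_mul_right 2 (b := X i₁ ^ 2) ?_ ⟨M.adjugate i₁ i₁, ?_⟩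
    · intro h
      exact hi (X_dvd_X.1 (X_prime.dvd_of_dvd_pow h))
    · rw [← h7, mul_comm]
  have h8 : ∀ i, M.adjugate i i = c * X i ^ 2 := by
    intro i
    apply mul_right_cancel₀ (pow_ne_zero 2 (X_ne_zero i₀))
    rw [h7, hc]; ring
  have h9 : (M.adjugate i₀ i₀).IsHomogeneous (Fintype.card ι - 1) := by
    rw [adjugate_apply, det_apply']
    refine IsHomogeneous.sum _ _ _ fun σ _ => ?_
    have : ∑ i, (if σ i = i₀ then 0 else 1) = Fintype.card ι - 1 := by
      rw [Equiv.sum_comp σ (fun i => if i = i₀ then 0 else 1), Finset.sum_ite]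
      simp [Finset.filter_ne', Finset.card_erase_of_mem]
    rw [← this, ← zero_add (∑ i, _)]
    refine IsHomogeneous.mul ?_ (IsHomogeneous.prod _ _ _ fun i _ => ?_)
    · rw [← map_intCast (C : ZMod 2 →+* MvPolynomial ι (ZMod 2))]; exact isHomogeneous_C _ _
    · split_ifs with h
      · rw [h, updateRow_self, Pi.single_apply]
        split_ifs
        exacts [isHomogeneous_one _ _, isHomogeneous_zero _ _ _]
      · rw [updateRow_ne h]
        exact IsHomogeneous.sum _ _ _ fun k _ => (isHomogeneous_X _ k).mul (isHomogeneous_C _ _)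
  have c0 : c ≠ 0 := by rintro rfl; exact h4 (by rw [hc, mul_zero])
  have h10 : c.totalDegree < Fintype.card ι := by
    have := h9.totalDegree_le
    rw [h8, totalDegree_mul_of_isDomain c0 (pow_ne_zero 2 (X_ne_zero i₀))] at this
    omega
  have h11 : eval 0 c = 0 := by
    have := h9.coeff_eq_zero (d := Finsupp.single i₀ 1 + Finsupp.single i₀ 1)
      (by simp only [map_add, Finsupp.degree_single]; omega)
    rw [h8, pow_two, ← mul_assoc, coeff_mul_X, ← zero_add (Finsupp.single i₀ 1), coeff_mul_X] at this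
    simpa [constantCoeff_eq] using this
  have := char_dvd_card_solutions 2 h10
  rw [Fintype.card_eq_one_iff.2 ⟨⟨0, h11⟩, fun ⟨x, hx⟩ => Subtype.ext (by
    by_contra h
    obtain ⟨i, hi⟩ := Function.ne_iff.1 h
    apply h3 x i (z2_ne.1 hi)
    rw [h8, map_mul, hx, zero_mul])⟩] at this
  omega

theorem no_trilinear {V : Type*} [AddCommGroup V] [Finite V] [Module (ZMod 2) V]
    (hn : 8 < Nat.card V) (f : V → V → V → ZMod 2) (s12 : ∀ x y z, f x y z = f y x z)
    (s23 : ∀ x y z, f x y z = f x z y) (d : ∀ x z, f x x z = 0)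
    (add : ∀ x y z z', f x y (z + z') = f x y z + f x y z')
    (nd : ∀ x y, (∀ z, f x y z = 0) → x = 0 ∨ y = 0 ∨ y = x) : False := by
  classical
  let e := Module.finBasis (ZMod 2) V
  have ex : ∀ x y (c : Fin (Module.finrank (ZMod 2) V) → ZMod 2),
      f x y (e.equivFun.symm c) = ∑ k, c k * f x y (e k) := by
    intro x y c
    have := map_sum ((AddMonoidHom.mk' (f x y) (add x y)).toZModLinearMap 2) (fun k => c k • e k)
      Finset.univ
    simp only [map_smul] at this
    rw [e.equivFun_symm_apply]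
    exact this
  refine no_trilinear_coord (ι := Fin (Module.finrank (ZMod 2) V)) ?_
    (fun i j k => f (e i) (e j) (e k)) (fun _ _ _ => s12 _ _ _) (fun _ _ _ => s23 _ _ _)
    (fun _ _ => d _ _) fun c v h => ?_
  · rw [Module.natCard_eq_pow_finrank (K := ZMod 2), Nat.card_zmod] at hn
    rw [Fintype.card_fin]
    exact (Nat.pow_lt_pow_iff_right one_lt_two).1 hn
  · have := nd (e.equivFun.symm c) (e.equivFun.symm v) fun z => by
      rw [← e.equivFun.symm_apply_apply z, ex]
      refine Finset.sum_eq_zero fun j _ => mul_eq_zero_of_right _ ?_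
      rw [s23, ex, ← h j]
      refine Finset.sum_congr rfl fun l _ => ?_
      rw [s12, s23, ex, mul_comm]
      congr 1
      exact Finset.sum_congr rfl fun k _ => by rw [s23, s12]
    simpa only [LinearEquiv.map_eq_zero_iff, EmbeddingLike.apply_eq_iff_eq] using this

variable {G V V' : Type*} [Group G] [AddCommGroup V] [AddCommGroup V'] [DistribMulAction G V]
  [DistribMulAction G V'] [Finite V] [Finite V'] [Module (ZMod 2) V] [Module (ZMod 2) V']

namespace St

variable {S : St G V V'} [Finite G]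

theorem HasG.ne_two (h : S.HasG 2) (hs : S.s ≠ 0) : False := by
  classical
  let β : V → V → V' := fun x y => if h : ∃ φ, S.Sp x y φ then h.choose else 0
  have hβ : ∀ {x y φ}, S.Sp x y φ → β x y = φ := by
    intro x y φ hφ
    have h1 : ∃ φ, S.Sp x y φ := ⟨φ, hφ⟩
    have h2 := h1.choose_spec
    simp only [β, dif_pos h1]
    by_contra hc
    have : pl φ h1.choose ≤ S.Lam x y := by
      refine sup_le ?_ ?_
      · rintro v (rfl | rfl); exacts [zero_mem _, Or.inr hφ]
      · rintro v (rfl | rfl); exacts [zero_mem _, Or.inr h2]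
    have := AddSubgroup.card_le_of_le this
    rw [card_pl hφ.hφ h2.hφ hc, h.cL hφ.hx hφ.hy hφ.yx] at this
    omega
  have h0 : ∀ {x y}, (¬ ∃ φ, S.Sp x y φ) → β x y = 0 := fun h => dif_neg h
  have hv : ∀ {x y z}, z ∈ pl x y → S.b z (β x y) = 0 := by
    intro x y z hz
    by_cases h1 : ∃ φ, S.Sp x y φ
    · obtain ⟨φ, h1⟩ := h1
      rw [hβ h1]
      exact S.mem_perp_pl.2 ⟨h1.xφ, h1.yφ⟩ z hz
    · simp [h0 h1]
  have hd : ∀ {x y}, x = 0 ∨ y ∈ ln x → β x y = 0 := by
    intro x y hz
    refine h0 ?_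
    rintro ⟨φ, h1⟩
    rcases hz with e | e | e
    exacts [h1.hx e, h1.hy e, h1.yx e]
  refine no_trilinear (V := V) ?_ (fun x y z => S.b z (β x y)) ?_ ?_ ?_ ?_ ?_
  · rw [S.cV]; exact (Nat.pow_lt_pow_iff_right one_lt_two (n := 3)).2 (by omega)
  · intro x y z
    by_cases h1 : ∃ φ, S.Sp x y φ
    · obtain ⟨φ, h1⟩ := h1
      simp only [hβ h1, hβ h1.symm]
    · simp only [h0 h1, h0 (x := y) (y := x) fun ⟨φ, h2⟩ => h1 ⟨φ, h2.symm⟩]
  · intro x y z
    show S.b z (β x y) = S.b y (β x z)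
    by_cases hx : x = 0
    · simp [hd (Or.inl hx)]
    by_cases hy : y ∈ ln x
    · rw [hd (Or.inr hy), hv ((le_sup_left : ln x ≤ _) hy), map_zero]
    by_cases hz : z ∈ ln x
    · rw [hd (Or.inr hz), hv ((le_sup_left : ln x ≤ _) hz), map_zero]
    simp only [mem_ln, not_or] at hy hz
    by_cases hzy : z ∈ pl x y
    · rw [hv hzy, hv]
      rcases mem_pl.1 hzy with e | e | e | e
      · exact absurd e hz.1
      · exact absurd e hz.2
      · rw [e]; exact right_mem_pl _ _
      · exact mem_pl.2 (Or.inr (Or.inr (Or.inr (by rw [e, add_assoc, c2, add_zero]))))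
    simp only [mem_pl, not_or] at hzy
    obtain ⟨g, g1, g2⟩ := S.cone2 hx (u := y + z) (fun e => hzy.2.2.1 (add_eq_zero2.1 e).symm)
      (fun e => hzy.2.2.2 (by rw [← e, ← add_assoc, c2, zero_add])) (z := y) (by
        simp only [mem_pl, not_or]
        refine ⟨hy.1, hy.2, by simpa using hz.1, fun e => hz.2 ?_⟩
        rw [add_assoc, left_eq_add] at e
        exact add_eq_zero2.1 e) (right_mem_pl _ _)
    rw [← add_assoc, c2, zero_add] at g2
    have g3 : g • z = y := by
      have := mem_stabilizer_iff.1 g1.2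
      rw [smul_add, g2, add_comm] at this
      exact add_right_cancel this
    obtain ⟨φ, hφ⟩ := S.exists_sp' hx hy.1 hy.2
    have := hφ.smul g
    rw [mem_stabilizer_iff.1 g1.1, g2] at this
    rw [hβ hφ, hβ this, ← g3, S.inv]
  · intro x z
    simp [hd (Or.inr (Or.inr rfl : x ∈ ln x))]
  · intro x y z z'
    simp
  · intro x y hz
    by_contra! hc
    obtain ⟨φ, hφ⟩ := S.exists_sp' hc.1 hc.2.1 hc.2.2
    exact hφ.hφ (S.sepR φ fun z => by simpa [hβ hφ] using hz z)

theorem HasG.dvd_card {γ : ℕ} (h : S.HasG γ) (e : 4 * γ = 2 ^ (S.s + 3)) :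
    (2 ^ (S.s + 3) - 1) * (2 ^ (S.s + 3) - 2) * (2 ^ (S.s + 1) - 1) ∣ Nat.card G := by
  obtain ⟨x, φ, h1, h2, h3⟩ := S.exists_flag
  obtain ⟨y, h4⟩ := S.exists_sp h1 h2 h3
  have := ncard_orb_mul (stabilizer G x ⊓ stabilizer G y) φ
  rw [h4.ncard_orb', h.cL h1 h4.hy h4.yx, show γ = 2 ^ (S.s + 1) by
    rw [pow_succ, pow_succ] at e; omega] at this
  rw [S.card_G h1, S.card_pair h1 h4.hy h4.yx, ← this, ← mul_assoc, ← mul_assoc]
  exact Dvd.intro _ rfl

variable (S) in
/-- the main counting result -/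
theorem dvd_card (hs : Even S.s) (hs0 : S.s ≠ 0) {x y : V} (hx : x ≠ 0) (hy : y ≠ 0) (hyx : y ≠ x) :
    2 ^ (S.s + 1) - 1 ∣ Nat.card ↥(stabilizer G x ⊓ stabilizer G y) := by
  have : (2 ^ (S.s + 3) - 1) * (2 ^ (S.s + 3) - 2) * (2 ^ (S.s + 1) - 1) ∣ Nat.card G := by
    obtain ⟨γ, h⟩ := S.exists_hasG
    obtain ⟨γ', h'⟩ := S.flip.exists_hasG
    by_cases e : 4 * γ = 2 ^ (S.s + 3)
    · exact h.dvd_card e
    by_cases e' : 4 * γ' = 2 ^ (S.s + 3)
    · exact h'.dvd_card e'
    exfalso
    obtain ⟨g, hg⟩ := h.pow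
    obtain ⟨g', hg'⟩ := h'.pow
    rcases g with _ | g
    · rw [hg] at h; exact HasG.ne_two h hs0
    rcases g' with _ | g'
    · rw [hg'] at h'; exact HasG.ne_two h' hs0
    exact (hyp_of h h' ⟨2 ^ g, by rw [hg]; ring⟩ ⟨2 ^ g', by rw [hg']; ring⟩ e).false hs
  rw [S.card_G hx, S.card_pair hx hy hyx, ← mul_assoc] at this
  refine Nat.dvd_of_mul_dvd_mul_left (Nat.mul_pos (odd_aux _).pos ?_) this
  rw [sub_two_aux]; exact Nat.mul_pos two_pos (odd_aux _).pos

end St

end Cfsg.Agent.Proj.CK
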